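import Mathlib
import Cfsg.Agent.Lib.TwoGroups.Recognition

/-!
# Groups of order `32` with centre of order two and a quadratic form of minus type
-/

set_option autoImplicit false
set_option linter.unusedSectionVars false
set_option linter.style.haveILetI false

namespace Cfsg.Agent.Lib.Inv59.RankFour

open TwoGroups.Recognition

universe u

variable {H : Type u} [Group H] [Finite H]

theorem center_dihedral_four : ∀ d : DihedralGroup 4,
    d * DihedralGroup.r 1 = DihedralGroup.r 1 * d → d * DihedralGroup.sr 0 = DihedralGroup.sr 0 * d →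
      d = 1 ∨ d = DihedralGroup.r 2 := by
  decide

/-- Squares in `D₈ × D₈` modulo the diagonal centre. -/
theorem dihedral_count :
    (Finset.univ.filter fun p : DihedralGroup 4 × DihedralGroup 4 =>
      ((p.1 = 1 ∨ p.1 = DihedralGroup.r 2) ∧ (p.2 = 1 ∨ p.2 = DihedralGroup.r 2)) = False ∧
        p.1 * p.1 = p.2 * p.2).card = 36 := by
  decide

/-- A group of order `32` with centre `W` of order two, squares in `W`, and a number of involutions
outside the centre divisible by five is a central product of `Q₈` and `D₈`. -/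
theorem central_product (W : Subgroup H) (hH : Nat.card H = 32) (hW : Nat.card W = 2)
    (hsq : ∀ h : H, h * h ∈ W) (hZ : ∀ h : H, h ∈ W ↔ ∀ g, g * h = h * g)
    (hne : {h : H | h ∉ W ∧ h * h = 1}.Nonempty) (h5 : {h : H | h ∉ W ∧ h * h = 1}.ncard % 5 = 0) :
    ∃ A B : Subgroup H, Nonempty (↥A ≃* QuaternionGroup 2) ∧ Nonempty (↥B ≃* DihedralGroup 4) ∧
      (∀ a ∈ A, ∀ b ∈ B, a * b = b * a) ∧ A ⊔ B = ⊤ ∧ A ⊓ B = Subgroup.center H := by
  classical
  obtain ⟨z, hzW, hz1⟩ : ∃ z ∈ W, z ≠ 1 := (Subgroup.bot_or_exists_ne_one W).resolve_left fun h => by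
    rw [h, Subgroup.card_bot] at hW; omega
  have hWz : ∀ w ∈ W, w = 1 ∨ w = z := by
    intro w hw
    by_contra hcon
    push Not at hcon
    haveI := Fintype.ofFinite ↥W
    have h3 : ({1, ⟨z, hzW⟩, ⟨w, hw⟩} : Finset ↥W).card = 3 := by
      rw [Finset.card_insert_of_notMem, Finset.card_pair]
      · exact fun e => hcon.2 (congrArg Subtype.val e).symm
      · simp only [Finset.mem_insert, Finset.mem_singleton, not_or]
        exact ⟨fun e => hz1 (congrArg Subtype.val e).symm, fun e => hcon.1 (congrArg Subtype.val e).symm⟩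
    have := Finset.card_le_univ ({1, ⟨z, hzW⟩, ⟨w, hw⟩} : Finset ↥W)
    rw [h3, ← Nat.card_eq_fintype_card, hW] at this
    omega
  have hzc : ∀ g, g * z = z * g := (hZ z).1 hzW
  have hzz : z * z = 1 := by
    rcases hWz _ (W.mul_mem hzW hzW) with h | h
    · exact h
    · exact absurd (mul_eq_left.1 h) hz1
  have hcomm : ∀ a b : H, a * b * a⁻¹ * b⁻¹ ∈ W := fun a b => by
    rw [show a * b * a⁻¹ * b⁻¹ = a * a * ((a⁻¹ * b) * (a⁻¹ * b)) * (b * b)⁻¹ by group]
    exact W.mul_mem (W.mul_mem (hsq _) (hsq _)) (W.inv_mem (hsq _))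
  have hswap : ∀ a b : H, a * b ≠ b * a → b * a = a * b * z := by
    intro a b hab
    rcases hWz _ (hcomm b a) with h | h
    · exact absurd (mul_inv_eq_iff_eq_mul.1 (mul_inv_eq_one.1 h)).symm hab
    · rw [mul_inv_eq_iff_eq_mul, mul_inv_eq_iff_eq_mul, ← hzc a, mul_assoc, ← hzc b, ← mul_assoc] at h
      exact h
  -- dihedral subgroups from non-commuting involutions
  have hdih : ∀ x w : H, x * x = 1 → w * w = 1 → x * w ≠ w * x →
      ∃ f : DihedralGroup 4 →* H, Function.Injective f ∧ f (DihedralGroup.r 1) = x * w ∧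
        f (DihedralGroup.sr 0) = x ∧ f (DihedralGroup.r 2) = z := by
    intro x w hx hw hxw
    have hwx := hswap x w hxw
    have ha2 : x * w * (x * w) = z := by
      calc x * w * (x * w) = x * (w * x) * w := by group
        _ = x * (x * w * z) * w := by rw [hwx]
        _ = (x * x) * w * (z * w) := by group
        _ = z := by rw [hx, ← hzc w, one_mul, ← mul_assoc, hw, one_mul]
    have ho : orderOf (x * w) = 4 := by
      haveI := Fact.mk Nat.prime_two
      refine orderOf_eq_prime_pow (p := 2) (n := 1) ?_ ?_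
      · rw [pow_one, pow_two, ha2]; exact hz1
      · show (x * w) ^ 4 = 1
        rw [show (x * w) ^ 4 = x * w * (x * w) * (x * w * (x * w)) by
          rw [show 4 = 2 + 2 from rfl, pow_add, pow_two], ha2, hzz]
    have hab : x * (x * w) * x⁻¹ = (x * w)⁻¹ := by
      rw [mul_inv_rev, inv_eq_of_mul_eq_one_right hx, inv_eq_of_mul_eq_one_right hw, ← mul_assoc, hx, one_mul]
    have hmem : x ∉ Subgroup.zpowers (x * w) := by
      rintro ⟨i, hi⟩
      apply hxw
      have hc : Commute (x * w) x := by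
        have h := (Commute.refl (x * w)).zpow_right i
        rwa [show (x * w) ^ i = x from hi] at h
      have h1 : x * w * x = x * (x * w) := hc.eq
      rw [← mul_assoc, hx, one_mul] at h1
      calc x * w = x * (x * w * x) := by rw [h1]
        _ = x * x * w * x := by group
        _ = w * x := by rw [hx, one_mul]
    refine ⟨dihedralHom (pow_eq_one_of_orderOf ho) hx hab, dihedralHom_injective ho hx hab hmem, ?_, ?_, ?_⟩
    · show powZ 4 (x * w) 1 = x * w
      exact powZ_one (pow_eq_one_of_orderOf ho)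
    · show x * powZ 4 (x * w) 0 = x
      rw [powZ_zero, mul_one]
    · show powZ 4 (x * w) ((2 : ℕ) : ZMod 4) = z
      rw [powZ_natCast (pow_eq_one_of_orderOf ho), pow_two, ha2]
  have hadj : ∀ (K : Subgroup H) (x w : H), x ∈ K → w ∈ K → x * x = 1 → x * w ≠ w * x →
      ∃ w' ∈ K, w' * w' = 1 ∧ x * w' ≠ w' * x := by
    intro K x w hxK hwK hx hxw
    rcases hWz _ (hsq w) with h | h
    · exact ⟨w, hwK, h, hxw⟩
    · refine ⟨x * w, K.mul_mem hxK hwK, ?_, ?_⟩
      · calc x * w * (x * w) = x * (w * x) * w := by group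
          _ = x * (x * w * z) * w := by rw [hswap x w hxw]
          _ = (x * x) * w * (z * w) := by group
          _ = z * z := by rw [hx, ← hzc w, one_mul, ← mul_assoc, h]
          _ = 1 := hzz
      · intro e
        rw [← mul_assoc, hx, one_mul] at e
        apply hxw
        calc x * w = x * (x * w * x) := by rw [← e]
          _ = x * x * w * x := by group
          _ = w * x := by rw [hx, one_mul]
  obtain ⟨x, hxW, hx⟩ := hne
  obtain ⟨w₀, hw₀⟩ : ∃ w, x * w ≠ w * x := by
    by_contra h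
    push Not at h
    exact hxW ((hZ x).2 fun g => (h g).symm)
  obtain ⟨w, -, hw, hxw⟩ := hadj ⊤ x w₀ (Subgroup.mem_top _) (Subgroup.mem_top _) hx hw₀
  obtain ⟨f, hfi, hf1, hfs, hfz⟩ := hdih x w hx hw hxw
  set A := f.range with hA
  set B := Subgroup.centralizer (A : Set H) with hB
  have hxA : x ∈ A := ⟨_, hfs⟩
  have hwA : w ∈ A := by
    have : x * (x * w) ∈ A := A.mul_mem hxA ⟨_, hf1⟩
    rwa [← mul_assoc, hx, one_mul] at this
  have hAgen : ∀ g, g * x = x * g → g * w = w * g → g ∈ B := by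
    intro g hgx hgw
    rw [hB, Subgroup.mem_centralizer_iff]
    rintro _ ⟨d, rfl⟩
    have c1 : Commute g (x * w) := (show Commute g x from hgx).mul_right hgw
    rcases d with i | i
    · rw [show DihedralGroup.r i = DihedralGroup.r 1 ^ i.val by rw [DihedralGroup.r_one_pow, ZMod.natCast_zmod_val],
        map_pow, hf1]
      exact (c1.pow_right _).symm.eq
    · rw [show DihedralGroup.sr i = DihedralGroup.sr 0 * DihedralGroup.r 1 ^ i.val by
        rw [DihedralGroup.r_one_pow, ZMod.natCast_zmod_val, DihedralGroup.sr_mul_r, zero_add],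
        map_mul, map_pow, hf1, hfs]
      exact ((show Commute g x from hgx).mul_right (c1.pow_right _)).symm.eq
  let F : H →* ↥W × ↥W := MonoidHom.mk'
    (fun g => (⟨g * x * g⁻¹ * x⁻¹, hcomm g x⟩, ⟨g * w * g⁻¹ * w⁻¹, hcomm g w⟩)) (by
      intro g g'
      have key : ∀ y, g * g' * y * (g * g')⁻¹ * y⁻¹ = (g * y * g⁻¹ * y⁻¹) * (g' * y * g'⁻¹ * y⁻¹) := by
        intro y
        have hc := (hZ _).1 (hcomm g' y)
        calc g * g' * y * (g * g')⁻¹ * y⁻¹
            = g * (g' * y * g'⁻¹ * y⁻¹) * y * g⁻¹ * y⁻¹ := by group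
          _ = (g' * y * g'⁻¹ * y⁻¹) * g * y * g⁻¹ * y⁻¹ := by rw [hc g]
          _ = (g' * y * g'⁻¹ * y⁻¹) * (g * y * g⁻¹ * y⁻¹) := by group
          _ = (g * y * g⁻¹ * y⁻¹) * (g' * y * g'⁻¹ * y⁻¹) := (hc _).symm
      exact Prod.ext (Subtype.ext (key x)) (Subtype.ext (key w)))
  have hFker : F.ker = B := by
    ext g
    rw [MonoidHom.mem_ker]
    constructor
    · intro h
      refine hAgen g ?_ ?_
      · exact mul_inv_eq_iff_eq_mul.1 (mul_inv_eq_one.1 (congrArg (fun p : ↥W × ↥W => (p.1 : H)) h))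
      · exact mul_inv_eq_iff_eq_mul.1 (mul_inv_eq_one.1 (congrArg (fun p : ↥W × ↥W => (p.2 : H)) h))
    · intro h
      have key : ∀ y ∈ A, g * y * g⁻¹ * y⁻¹ = 1 := fun y hy => by
        rw [← Subgroup.mem_centralizer_iff.1 h y hy, mul_inv_cancel_right, mul_inv_cancel]
      exact Prod.ext (Subtype.ext (key x hxA)) (Subtype.ext (key w hwA))
  have hAB : ∀ g ∈ A, g ∈ B → g ∈ W := by
    rintro _ ⟨d, rfl⟩ hgB
    have h1 := Subgroup.mem_centralizer_iff.1 hgB _ ⟨DihedralGroup.r 1, rfl⟩
    have h2 := Subgroup.mem_centralizer_iff.1 hgB _ ⟨DihedralGroup.sr 0, rfl⟩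
    rw [← map_mul, ← map_mul] at h1 h2
    rcases center_dihedral_four d (hfi h1).symm (hfi h2).symm with h | h <;> rw [h]
    · rw [map_one]; exact W.one_mem
    · rw [hfz]; exact hzW
  have hWB : W ≤ B := fun g hg => Subgroup.mem_centralizer_iff.2 fun a _ => (hZ g).1 hg a
  have hsurj : ∀ p, ∃ a ∈ A, F a = p := by
    let G₂ := (F.comp f)
    have hk : G₂.ker ≤ Subgroup.zpowers (DihedralGroup.r 2) := by
      intro d hd
      have hB' : f d ∈ B := hFker ▸ MonoidHom.mem_ker.2 hd
      have h1 := Subgroup.mem_centralizer_iff.1 hB' _ ⟨DihedralGroup.r 1, rfl⟩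
      have h2 := Subgroup.mem_centralizer_iff.1 hB' _ ⟨DihedralGroup.sr 0, rfl⟩
      rw [← map_mul, ← map_mul] at h1 h2
      rcases center_dihedral_four d (hfi h1).symm (hfi h2).symm with h | h <;> rw [h]
      · exact Subgroup.one_mem _
      · exact Subgroup.mem_zpowers _
    have hk2 : Nat.card G₂.ker ≤ 2 := by
      refine (Subgroup.card_le_of_le hk).trans ?_
      rw [Nat.card_zpowers]
      refine Nat.le_of_dvd (by norm_num) (orderOf_dvd_of_pow_eq_one ?_)
      decide
    have h := Subgroup.card_mul_index G₂.ker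
    rw [Subgroup.index_ker, DihedralGroup.nat_card] at h
    have htop : G₂.range = ⊤ := by
      refine Subgroup.eq_top_of_le_card _ ?_
      rw [Nat.card_prod, hW]
      by_contra hlt
      have : Nat.card G₂.ker * Nat.card G₂.range ≤ 2 * 3 := Nat.mul_le_mul hk2 (by omega)
      omega
    intro p
    obtain ⟨d, hd⟩ : p ∈ G₂.range := htop ▸ Subgroup.mem_top p
    exact ⟨f d, ⟨d, rfl⟩, hd⟩
  have hB8 : Nat.card B = 8 := by
    have h := Subgroup.card_mul_index F.ker
    rw [Subgroup.index_ker, hFker, hH, MonoidHom.range_eq_top.2 fun p =>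
      (hsurj p).elim fun a ha => ⟨a, ha.2⟩, Subgroup.card_top, Nat.card_prod, hW] at h
    omega
  have hsup : ∀ h : H, ∃ a ∈ A, ∃ b ∈ B, a * b = h := by
    intro h
    obtain ⟨a, ha, he⟩ := hsurj (F h)
    refine ⟨a, ha, a⁻¹ * h, ?_, mul_inv_cancel_left a h⟩
    rw [← hFker, MonoidHom.mem_ker, map_mul, map_inv, he, inv_mul_cancel]
  have hBne : ∀ b ∈ B, b ∉ W → ∃ c ∈ B, b * c ≠ c * b := by
    intro b hb hbW
    by_contra hall
    push Not at hall
    refine hbW ((hZ b).2 fun g => ?_)
    obtain ⟨a, ha, c, hc, rfl⟩ := hsup g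
    have c1 : Commute a b := Subgroup.mem_centralizer_iff.1 hb a ha
    have c2 : Commute c b := (hall c hc).symm
    exact (c1.mul_left c2).eq
  have hcen : Subgroup.center H = W := by
    ext g
    rw [Subgroup.mem_center_iff, hZ]
  obtain ⟨b, hb, hbW⟩ : ∃ b ∈ B, b ∉ W := SetLike.not_le_iff_exists.1 fun h => by
    have := Subgroup.card_le_of_le h
    omega
  have hcAB : ∀ a ∈ A, ∀ b ∈ B, a * b = b * a := fun a ha b hb => Subgroup.mem_centralizer_iff.1 hb a ha
  by_cases hS : ∃ b ∈ B, b ∉ W ∧ b * b = 1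
  · exfalso
    obtain ⟨b, hb, hbW, hb2⟩ := hS
    obtain ⟨c₀, hc₀, hbc₀⟩ := hBne b hb hbW
    obtain ⟨c, hc, hc2, hbc⟩ := hadj B b c₀ hb hc₀ hb2 hbc₀
    obtain ⟨g, hgi, hg1, hgs, hgz⟩ := hdih b c hb2 hc2 hbc
    have hgB : ∀ d, g d ∈ B := by
      intro d
      have h1 : g (DihedralGroup.r 1) ∈ B := hg1 ▸ B.mul_mem hb hc
      have h2 : g (DihedralGroup.sr 0) ∈ B := hgs ▸ hb
      rcases d with i | i
      · rw [show DihedralGroup.r i = DihedralGroup.r 1 ^ i.val by rw [DihedralGroup.r_one_pow, ZMod.natCast_zmod_val],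
          map_pow]
        exact B.pow_mem h1 _
      · rw [show DihedralGroup.sr i = DihedralGroup.sr 0 * DihedralGroup.r 1 ^ i.val by
          rw [DihedralGroup.r_one_pow, ZMod.natCast_zmod_val, DihedralGroup.sr_mul_r, zero_add],
          map_mul, map_pow]
        exact B.mul_mem h2 (B.pow_mem h1 _)
    have hgrange : g.range = B := by
      refine Subgroup.eq_of_le_of_card_ge (by rintro _ ⟨d, rfl⟩; exact hgB d) ?_
      rw [← Nat.card_congr (MonoidHom.ofInjective hgi).toEquiv, DihedralGroup.nat_card, hB8]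
    let P : DihedralGroup 4 × DihedralGroup 4 →* H := MonoidHom.mk' (fun p => f p.1 * g p.2) (by
      intro p q
      have hc : g p.2 * f q.1 = f q.1 * g p.2 := (hcAB _ ⟨q.1, rfl⟩ _ (hgB p.2)).symm
      show f (p.1 * q.1) * g (p.2 * q.2) = f p.1 * g p.2 * (f q.1 * g q.2)
      rw [map_mul, map_mul, mul_assoc (f p.1) (g p.2), ← mul_assoc (g p.2), hc]
      group)
    have hPs : Function.Surjective P := by
      intro h
      obtain ⟨a, ⟨d, rfl⟩, e', he', rfl⟩ := hsup h
      obtain ⟨e, rfl⟩ : e' ∈ g.range := hgrange.symm ▸ he'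
      exact ⟨(d, e), rfl⟩
    have hPk : Nat.card P.ker = 2 := by
      have h := Subgroup.card_mul_index P.ker
      rw [Subgroup.index_ker, MonoidHom.range_eq_top.2 hPs, Subgroup.card_top, hH, Nat.card_prod,
        DihedralGroup.nat_card] at h
      omega
    have hPW : ∀ p, P p ∈ W ↔ (p.1 = 1 ∨ p.1 = DihedralGroup.r 2) ∧ (p.2 = 1 ∨ p.2 = DihedralGroup.r 2) := by
      intro p
      constructor
      · intro h
        have h' : f p.1 * g p.2 ∈ W := h
        have h1 : f p.1 ∈ B := by
          rw [show f p.1 = f p.1 * g p.2 * (g p.2)⁻¹ by group]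
          exact B.mul_mem (hWB h') (B.inv_mem (hgB _))
        have h2 := hAB _ ⟨p.1, rfl⟩ h1
        have h3 : g p.2 ∈ W := by
          rw [show g p.2 = (f p.1)⁻¹ * (f p.1 * g p.2) by group]
          exact W.mul_mem (W.inv_mem h2) h'
        exact ⟨(hWz _ h2).imp (fun e => hfi (e.trans (map_one f).symm)) (fun e => hfi (e.trans hfz.symm)),
          (hWz _ h3).imp (fun e => hgi (e.trans (map_one g).symm)) (fun e => hgi (e.trans hgz.symm))⟩
      · rintro ⟨h1, h2⟩
        show f p.1 * g p.2 ∈ W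
        refine W.mul_mem ?_ ?_
        · rcases h1 with h | h <;> rw [h] <;> simp [hfz, hzW]
        · rcases h2 with h | h <;> rw [h] <;> simp [hgz, hzW]
    have hsq1 : ∀ p, P p * P p = 1 ↔ p.1 * p.1 = p.2 * p.2 := by
      intro p
      rw [← map_mul]
      show f (p.1 * p.1) * g (p.2 * p.2) = 1 ↔ _
      have hD : ∀ d : DihedralGroup 4, d * d = 1 ∨ d * d = DihedralGroup.r 2 := by decide
      have hne : (1 : DihedralGroup 4) ≠ DihedralGroup.r 2 := by decide
      rcases hD p.1 with h1 | h1 <;> rcases hD p.2 with h2 | h2 <;>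
        simp [h1, h2, hfz, hgz, hz1, hzz, hne, hne.symm]
    set S := {h : H | h ∉ W ∧ h * h = 1} with hSdef
    have hcount : Nat.card {p // P p ∈ S} = S.ncard * 2 := by
      rw [← Nat.card_coe_set_eq, ← hPk, ← Nat.card_prod]
      refine Nat.card_congr
        { toFun := fun p => (⟨P p.1, p.2⟩, ⟨(Function.surjInv hPs (P p.1))⁻¹ * p.1, by
            rw [MonoidHom.mem_ker, map_mul, map_inv, Function.surjInv_eq hPs, inv_mul_cancel]⟩)
          invFun := fun q => ⟨Function.surjInv hPs q.1.1 * q.2.1, by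
            rw [map_mul, Function.surjInv_eq hPs, MonoidHom.mem_ker.1 q.2.2, mul_one]
            exact q.1.2⟩
          left_inv := fun p => Subtype.ext (mul_inv_cancel_left _ _)
          right_inv := ?_ }
      rintro ⟨⟨h, hh⟩, ⟨k, hk⟩⟩
      have e : P (Function.surjInv hPs h * k) = h := by
        rw [map_mul, Function.surjInv_eq hPs, MonoidHom.mem_ker.1 hk, mul_one]
      refine Prod.ext (Subtype.ext e) (Subtype.ext ?_)
      show (Function.surjInv hPs (P (Function.surjInv hPs h * k)))⁻¹ * (Function.surjInv hPs h * k) = k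
      rw [e, inv_mul_cancel_left]
    have hcount2 : Nat.card {p // P p ∈ S} = 36 := by
      rw [Nat.card_eq_fintype_card, Fintype.card_subtype, ← dihedral_count]
      refine congrArg Finset.card (Finset.filter_congr fun p _ => ?_)
      show P p ∉ W ∧ P p * P p = 1 ↔ _
      rw [hPW, hsq1, eq_iff_iff, iff_false]
    rw [hcount] at hcount2
    omega
  · push Not at hS
    obtain ⟨c, hc, hbc⟩ := hBne b hb hbW
    have hbz : b * b = z := (hWz _ (hsq b)).resolve_left (hS b hb hbW)
    have hcW : c ∉ W := fun h => hbc ((hZ c).1 h b)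
    have hcz : c * c = z := (hWz _ (hsq c)).resolve_left (hS c hc hcW)
    haveI := Fact.mk Nat.prime_two
    have ho : orderOf b = 2 * 2 := by
      refine orderOf_eq_prime_pow (p := 2) (n := 1) ?_ ?_
      · rw [pow_one, pow_two, hbz]; exact hz1
      · show b ^ 4 = 1
        rw [show b ^ 4 = b * b * (b * b) by rw [show 4 = 2 + 2 from rfl, pow_add, pow_two], hbz, hzz]
    have hab : c * b * c⁻¹ = b⁻¹ := by
      have hb3 : b⁻¹ = b * z := inv_eq_of_mul_eq_one_right (by rw [← mul_assoc, hbz, hzz])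
      rw [hb3, mul_inv_eq_iff_eq_mul, mul_assoc b z c, ← hzc c, ← mul_assoc]
      exact hswap b c hbc
    have hmem : c ∉ Subgroup.zpowers b := by
      rintro ⟨i, hi⟩
      apply hbc
      have h := (Commute.refl b).zpow_right i
      rw [show b ^ i = c from hi] at h
      exact h.eq
    have eB : Nonempty (↥B ≃* QuaternionGroup 2) :=
      nonempty_quaternion_subgroup hb hc ho (by rw [hcz, pow_two, hbz]) hab hmem (by rw [hB8])
    have eA : Nonempty (↥A ≃* DihedralGroup 4) := ⟨(MonoidHom.ofInjective hfi).symm⟩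
    refine ⟨B, A, eB, eA, fun a ha b hb => (hcAB b hb a ha).symm, ?_, ?_⟩
    · rw [eq_top_iff]
      intro h _
      obtain ⟨a, ha, c, hc, rfl⟩ := hsup h
      exact Subgroup.mul_mem _ (Subgroup.mem_sup_right ha) (Subgroup.mem_sup_left hc)
    · rw [hcen]
      refine le_antisymm (fun g hg => hAB g hg.2 hg.1) fun g hg => ⟨hWB hg, ?_⟩
      rcases hWz g hg with rfl | rfl
      · exact A.one_mem
      · exact ⟨_, hfz⟩

end Cfsg.Agent.Lib.Inv59.RankFour
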