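import Mathlib
import Cfsg.Agent.Lib.SectionalRank.Basic

/-!
# An extension of a group of order at most 16 by `S₆` has sectional 2-rank at least 5
-/

set_option autoImplicit false
set_option linter.unusedSectionVars false
set_option linter.style.haveILetI false
set_option maxHeartbeats 1000000

namespace Cfsg.Agent.Lib.Inv59.RankFour

open Equiv Equiv.Perm

universe u v

/-- Sectional rank passes to quotients. -/
theorem sectionalRank_of_surjective {X : Type u} {Y : Type v} [Group X] [Group Y] {p k : ℕ}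
    (h : Cfsg.SectionalPRankLE p k X) (f : X →* Y) (hf : Function.Surjective f) :
    Cfsg.SectionalPRankLE p k Y := by
  intro H N _ A hAc hAp
  let f' : ↥(H.comap f) →* ↥H := f.subgroupComap H
  have hf' : Function.Surjective f' := f.subgroupComap_surjective_of_surjective H hf
  refine SectionalRank.card_le h (H.comap f) ((QuotientGroup.mk' N).comp f') A ?_ ⟨hAc, hAp⟩
  intro x _
  obtain ⟨y, rfl⟩ := QuotientGroup.mk'_surjective N x
  obtain ⟨z, rfl⟩ := hf' y
  exact ⟨z, rfl⟩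

/-- The group `⟨(0 1 2), (3 4 5)⟩`. -/
def pNine : Fin 3 × Fin 3 → Perm (Fin 6) := fun e =>
  (swap 0 1 * swap 1 2) ^ (e.1 : ℕ) * (swap 3 4 * swap 4 5) ^ (e.2 : ℕ)

theorem pNine_mul : ∀ a b, ∃ c, pNine c = pNine a * pNine b := by decide +kernel

theorem pNine_inv : ∀ a, ∃ c, pNine c = (pNine a)⁻¹ := by decide +kernel

theorem pNine_inj : Function.Injective pNine := by decide +kernel

/-- The subgroup. -/
def pNineGroup : Subgroup (Perm (Fin 6)) where
  carrier := Set.range pNine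
  one_mem' := ⟨(0, 0), by simp [pNine]⟩
  mul_mem' := by rintro _ _ ⟨a, rfl⟩ ⟨b, rfl⟩; exact pNine_mul a b
  inv_mem' := by rintro _ ⟨a, rfl⟩; exact pNine_inv a

theorem card_pNineGroup : Nat.card pNineGroup = 9 := by
  show Nat.card (Set.range pNine) = 9
  rw [Nat.card_range_of_injective pNine_inj, Nat.card_prod, Nat.card_fin]

/-- Representatives of the three classes of involutions normalizing the group. -/
def reps : Fin 3 → Perm (Fin 6) :=
  ![swap 0 1, swap 0 1 * swap 3 4, swap 0 3 * swap 1 4 * swap 2 5]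

theorem reps_normalize : ∀ i a, ∃ c, pNine c = reps i * pNine a * (reps i)⁻¹ := by decide +kernel

theorem reps_invol : ∀ i, reps i * reps i = 1 ∧ reps i ≠ 1 := by decide +kernel

theorem reps_support : ∀ i : Fin 3, (reps i).support.card = 2 * ((i : ℕ) + 1) := by decide +kernel

theorem double_invol : ∀ a, (reps 1 * pNine a) * (reps 1 * pNine a) = 1 ∧ reps 1 * pNine a ≠ 1 := by
  decide +kernel

theorem centralizer_card_dvd (σ : Perm (Fin 6)) (hσ : σ * σ = 1) (hσ1 : σ ≠ 1) :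
    16 ∣ Nat.card (Subgroup.centralizer ({σ} : Set (Perm (Fin 6)))) ∧
      ∃ i, IsConj (reps i) σ := by
  have ho : orderOf σ = 2 := orderOf_eq_prime (by rw [pow_two]; exact hσ) hσ1
  obtain ⟨n, hn⟩ := cycleType_prime_order (σ := σ) (by rw [ho]; exact Nat.prime_two)
  rw [ho] at hn
  have hsum : σ.cycleType.sum ≤ 6 := by
    rw [sum_cycleType]; exact σ.support.card_le_univ.trans (by simp)
  rw [hn, Multiset.sum_replicate, smul_eq_mul] at hsum
  refine ⟨?_, ⟨⟨n, by omega⟩, ?_⟩⟩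
  · rw [nat_card_centralizer, hn, Fintype.card_fin]
    simp only [Multiset.sum_replicate, smul_eq_mul, Multiset.prod_replicate, Multiset.toFinset_replicate]
    obtain rfl | rfl | rfl : n = 0 ∨ n = 1 ∨ n = 2 := by omega
    all_goals norm_num [Multiset.count_replicate, Nat.factorial]
  · obtain ⟨hr, hr1⟩ := reps_invol ⟨n, by omega⟩
    have hor : orderOf (reps ⟨n, by omega⟩) = 2 := orderOf_eq_prime (by rw [pow_two]; exact hr) hr1
    obtain ⟨m, hm⟩ := cycleType_prime_order (σ := reps ⟨n, by omega⟩) (by rw [hor]; exact Nat.prime_two)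
    rw [hor] at hm
    have hs := reps_support ⟨n, by omega⟩
    rw [← sum_cycleType, hm, Multiset.sum_replicate, smul_eq_mul] at hs
    rw [isConj_iff_cycleType_eq, hm, hn, show m = n by simp only [Fin.val_mk] at hs; omega]

variable {Y : Type u} [Group Y] [Finite Y]

/-- Subgroups of order nine are conjugate in a group of order `2 ^ k * 9`. -/
theorem conj_nine {G : Type u} [Group G] [Finite G] {k : ℕ} (hG : Nat.card G = 2 ^ k * 9)
    (A B : Subgroup G) (hA : Nat.card A = 9) (hB : Nat.card B = 9) :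
    ∃ g : G, ∀ a ∈ A, g * a * g⁻¹ ∈ B := by
  haveI := Fact.mk Nat.prime_three
  have key : ∀ C : Subgroup G, Nat.card C = 9 → ∃ P : Sylow 3 G, (P : Subgroup G) = C := by
    intro C hC
    obtain ⟨P, hP⟩ := (IsPGroup.of_card (p := 3) (n := 2) (G := ↥C) (by rw [hC]; norm_num)).exists_le_sylow
    refine ⟨P, (Subgroup.eq_of_le_of_card_ge hP ?_).symm⟩
    obtain ⟨j, hj⟩ := IsPGroup.iff_card.1 P.isPGroup'
    have hd : 3 ^ j ∣ 2 ^ k * 9 := hG ▸ hj ▸ Subgroup.card_subgroup_dvd_card (P : Subgroup G)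
    have h9 : 3 ^ j ∣ 3 ^ 2 :=
      (Nat.Coprime.pow j k (by norm_num : Nat.Coprime 3 2)).dvd_of_dvd_mul_left hd
    rw [hC, hj]
    exact Nat.le_of_dvd (by norm_num) h9
  obtain ⟨P, rfl⟩ := key A hA
  obtain ⟨Q, rfl⟩ := key B hB
  obtain ⟨g, rfl⟩ := MulAction.exists_smul_eq G P Q
  refine ⟨g, fun a ha => ?_⟩
  rw [Sylow.coe_subgroup_smul]
  exact Subgroup.smul_mem_pointwise_smul a (MulAut.conj g) _ ha

/-- The main step. -/
theorem six_exclusion (V : Subgroup Y) [V.Normal] (hc : ∀ a ∈ V, ∀ b ∈ V, a * b = b * a)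
    (hsq : ∀ a ∈ V, a * a = 1) (h16 : Nat.card V ≤ 16) (π : Y →* Perm (Fin 6))
    (hπ : Function.Surjective π) (hker : π.ker = V)
    (hC : Subgroup.centralizer (V : Set Y) ≤ V) (hr : Cfsg.SectionalPRankLE 2 4 Y) : False := by
  classical
  haveI := Fact.mk Nat.prime_two
  haveI := Fact.mk Nat.prime_three
  have hVn : ∀ (y : Y), ∀ w ∈ V, y * w * y⁻¹ ∈ V := fun y w hw => (inferInstance : V.Normal).conj_mem w hw y
  have hVker : ∀ v ∈ V, π v = 1 := fun v hv => MonoidHom.mem_ker.1 (hker.symm ▸ hv)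
  have hkerV : ∀ y, π y = 1 → y ∈ V := fun y hy => hker ▸ MonoidHom.mem_ker.2 hy
  have hVp : IsPGroup 2 V := fun v => ⟨1, Subtype.ext (by
    rw [pow_one, Subgroup.coe_pow, pow_two]; exact hsq v v.2)⟩
  obtain ⟨a, ha⟩ := IsPGroup.iff_card.1 hVp
  have ha4 : a ≤ 4 := by
    rw [ha, show (16 : ℕ) = 2 ^ 4 by norm_num] at h16
    exact (Nat.pow_le_pow_iff_right (by norm_num)).1 h16
  -- a subgroup of order nine
  set P₁ := pNineGroup.comap π with hP₁
  have hVP₁ : V ≤ P₁ := fun v hv => by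
    rw [hP₁, Subgroup.mem_comap, hVker v hv]
    exact pNineGroup.one_mem
  have hP₁card : Nat.card P₁ = Nat.card V * 9 := by
    have h := Subgroup.card_mul_index (π.subgroupComap pNineGroup).ker
    rw [Subgroup.index_ker, MonoidHom.range_eq_top.2 (π.subgroupComap_surjective_of_surjective _ hπ),
      Subgroup.card_top, card_pNineGroup] at h
    have hk : (π.subgroupComap pNineGroup).ker = V.subgroupOf P₁ := by
      ext x
      rw [MonoidHom.mem_ker, Subgroup.mem_subgroupOf, ← hker, MonoidHom.mem_ker]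
      exact Subtype.ext_iff
    rw [hk, Nat.card_congr (Subgroup.subgroupOfEquivOfLe hVP₁).toEquiv] at h
    exact h.symm
  obtain ⟨R₀, hR₀⟩ := Sylow.exists_subgroup_card_pow_prime 3 (G := P₁) (n := 2)
    (by rw [hP₁card]; exact Dvd.intro_left _ rfl)
  set R := R₀.map P₁.subtype with hRdef
  have hR9 : Nat.card R = 9 := by
    rw [hRdef, Subgroup.card_map_of_injective P₁.subtype_injective, hR₀]; norm_num
  have hRP₁ : R ≤ P₁ := Subgroup.map_subtype_le _
  have hRV : ∀ r ∈ R, r ∈ V → r = 1 := by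
    intro r hr hrV
    have h1 : orderOf r ∣ 2 := orderOf_dvd_of_pow_eq_one (by rw [pow_two]; exact hsq r hrV)
    have h2 : orderOf r ∣ 9 := hR9 ▸ Subgroup.orderOf_dvd_natCard R hr
    exact orderOf_eq_one_iff.1 (Nat.dvd_one.1 ((by norm_num : Nat.gcd 2 9 = 1) ▸ Nat.dvd_gcd h1 h2))
  have hπR : R.map π = pNineGroup := by
    refine Subgroup.eq_of_le_of_card_ge ((Subgroup.map_mono hRP₁).trans (Subgroup.map_comap_le _ _)) ?_
    have hinj : Function.Injective (π.comp R.subtype) := by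
      rw [injective_iff_map_eq_one]
      exact fun r hr => Subtype.ext (hRV r r.2 (hkerV _ hr))
    rw [card_pNineGroup, ← R.range_subtype, MonoidHom.map_range,
      ← Nat.card_congr (MonoidHom.ofInjective hinj).toEquiv, hR9]
  -- fixed points of subgroups of `R` on `V`
  have hR3 : IsPGroup 3 ↥R := IsPGroup.of_card (n := 2) (by rw [hR9]; norm_num)
  have hmodK : ∀ K : Subgroup Y, K ≤ R →
      Nat.card V % 3 = Nat.card ↥(V ⊓ Subgroup.centralizer (K : Set Y)) % 3 := by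
    intro K hK
    letI : MulAction ↥K ↥V :=
      { smul := fun h v => ⟨(h : Y) * v * (h : Y)⁻¹, hVn _ _ v.2⟩
        one_smul := fun v => Subtype.ext (by show (1 : Y) * v * 1⁻¹ = v; simp)
        mul_smul := fun g h v => Subtype.ext (by
          show ((g : Y) * h) * v * ((g : Y) * h)⁻¹ = g * (h * v * (h : Y)⁻¹) * (g : Y)⁻¹
          group) }
    have hfix : Nat.card (MulAction.fixedPoints ↥K ↥V) =
        Nat.card ↥(V ⊓ Subgroup.centralizer (K : Set Y)) := by
      refine Nat.card_congr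
        { toFun := fun v => ⟨v.1.1, v.1.2, ?_⟩
          invFun := fun v => ⟨⟨v.1, v.2.1⟩, ?_⟩
          left_inv := fun v => rfl
          right_inv := fun v => rfl }
      · show (v.1 : Y) ∈ Subgroup.centralizer (K : Set Y)
        rw [Subgroup.mem_centralizer_iff]
        intro h hh
        exact mul_inv_eq_iff_eq_mul.1 (congrArg Subtype.val (v.2 ⟨h, hh⟩))
      · intro h
        refine Subtype.ext ?_
        show (h : Y) * (v.1 : Y) * (h : Y)⁻¹ = v.1
        rw [mul_inv_eq_iff_eq_mul]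
        exact Subgroup.mem_centralizer_iff.1 v.2.2 _ h.2
    have hmod := (hR3.to_le hK).card_modEq_card_fixedPoints (α := ↥V)
    rwa [hfix] at hmod
  have hR1 : ∀ r ∈ R, r ≠ 1 → ∃ b, b < a ∧ Nat.card ↥(V ⊓ Subgroup.centralizer {r}) = 2 ^ b ∧
      2 ^ a % 3 = 2 ^ b % 3 := by
    intro r hr hr1
    obtain ⟨b, hba, hb⟩ := (Nat.dvd_prime_pow Nat.prime_two).1
      (ha ▸ Subgroup.card_dvd_of_le (inf_le_left : V ⊓ Subgroup.centralizer {r} ≤ V))
    refine ⟨b, lt_of_le_of_ne hba fun hab => hr1 (hRV r hr (hC ?_)), hb, ?_⟩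
    · have heq := Subgroup.eq_of_le_of_card_ge (inf_le_left : V ⊓ Subgroup.centralizer {r} ≤ V)
        (by rw [ha, hb, hab])
      rw [Subgroup.mem_centralizer_iff]
      intro v hv
      rw [SetLike.mem_coe, ← heq] at hv
      exact Subgroup.mem_centralizer_singleton_iff.1 hv.2
    · have h := hmodK (Subgroup.zpowers r) (Subgroup.zpowers_le.2 hr)
      rwa [Subgroup.zpowers_eq_closure, Subgroup.centralizer_closure, ha, hb] at h
  obtain ⟨r₀, hr₀, hr₀1⟩ : ∃ r ∈ R, r ≠ 1 := (Subgroup.bot_or_exists_ne_one R).resolve_left fun h => by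
    rw [h, Subgroup.card_bot] at hR9; omega
  have hCR : V ⊓ Subgroup.centralizer (R : Set Y) = ⊥ := by
    by_contra hne
    set C := V ⊓ Subgroup.centralizer (R : Set Y) with hCdef
    have hCle : ∀ r ∈ R, C ≤ V ⊓ Subgroup.centralizer {r} := fun r hr x hx =>
      ⟨hx.1, Subgroup.mem_centralizer_singleton_iff.2 ((Subgroup.mem_centralizer_iff.1 hx.2) r hr).symm⟩
    obtain ⟨d, -, hd⟩ := (Nat.dvd_prime_pow Nat.prime_two).1
      (ha ▸ Subgroup.card_dvd_of_le (inf_le_left : C ≤ V))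
    have hd1 : 1 ≤ d := by
      by_contra hd0
      exact hne (Subgroup.card_eq_one.1 (by rw [hd, show d = 0 by omega, pow_zero]))
    have hdmod : 2 ^ a % 3 = 2 ^ d % 3 := by
      have h := hmodK R le_rfl
      rwa [← hCdef, ha, hd] at h
    have hab : ∀ r ∈ R, r ≠ 1 → V ⊓ Subgroup.centralizer {r} = C ∧
        ((a = 3 ∧ d = 1) ∨ (a = 4 ∧ d = 2)) := by
      intro r hr hr1
      obtain ⟨b, hba, hb, hmod⟩ := hR1 r hr hr1
      have h2 := Subgroup.card_le_of_le (hCle r hr)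
      rw [hb, hd] at h2
      have hdb : d ≤ b := (Nat.pow_le_pow_iff_right (by norm_num)).1 h2
      have key : ∀ a b d : Fin 5, 1 ≤ (d : ℕ) → (d : ℕ) ≤ b → (b : ℕ) < a →
          2 ^ (a : ℕ) % 3 = 2 ^ (b : ℕ) % 3 → 2 ^ (a : ℕ) % 3 = 2 ^ (d : ℕ) % 3 →
          d = b ∧ (((a : ℕ) = 3 ∧ (d : ℕ) = 1) ∨ ((a : ℕ) = 4 ∧ (d : ℕ) = 2)) := by decide
      obtain ⟨e, h⟩ := key ⟨a, by omega⟩ ⟨b, by omega⟩ ⟨d, by omega⟩ hd1 hdb hba hmod hdmod
      refine ⟨(Subgroup.eq_of_le_of_card_ge (hCle r hr) ?_).symm, h⟩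
      rw [hb, hd, show d = b from congrArg Fin.val e]
    -- `R` acts freely outside `C`
    have hfree : ∀ v ∈ V, v ∉ C → ∀ s ∈ R, s * v * s⁻¹ = v → s = 1 := by
      intro v hv hvC s hs he
      by_contra hs1
      apply hvC
      rw [← (hab s hs hs1).1]
      exact ⟨hv, Subgroup.mem_centralizer_singleton_iff.2 (mul_inv_eq_iff_eq_mul.1 he).symm⟩
    have horb : ∀ v ∈ V, v ∉ C → (fun s : R => (s : Y) * v * (s : Y)⁻¹) '' Set.univ ⊆ (V : Set Y) \ C ∧
        ((fun s : R => (s : Y) * v * (s : Y)⁻¹) '' Set.univ).ncard = 9 := by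
      intro v hv hvC
      refine ⟨?_, ?_⟩
      · rintro _ ⟨s, -, rfl⟩
        refine ⟨hVn _ _ hv, fun hcon => hvC ?_⟩
        have hh := Subgroup.mem_centralizer_iff.1 hcon.2 _ s.2
        have : v = (s : Y)⁻¹ * ((s : Y) * v * (s : Y)⁻¹) * s := by group
        rw [this, mul_assoc, ← hh, inv_mul_cancel_left]
        exact hcon
      · rw [Set.ncard_image_of_injective, Set.ncard_univ, hR9]
        intro s t e
        have e' : (s : Y) * v * (s : Y)⁻¹ = (t : Y) * v * (t : Y)⁻¹ := e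
        have h1 := hfree v hv hvC ((t : Y)⁻¹ * s) (R.mul_mem (R.inv_mem t.2) s.2) (by
          rw [show (t : Y)⁻¹ * s * v * ((t : Y)⁻¹ * s)⁻¹ = (t : Y)⁻¹ * ((s : Y) * v * (s : Y)⁻¹) * t by group,
            e']
          group)
        exact Subtype.ext (inv_mul_eq_one.1 h1).symm
    have hsdiff : ((V : Set Y) \ C).ncard = Nat.card V - Nat.card C := by
      have hsub : (C : Set Y) ⊆ (V : Set Y) := fun x hx => hx.1
      rw [Set.ncard_sdiff hsub (Set.toFinite _), ← Nat.card_coe_set_eq, ← Nat.card_coe_set_eq]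
      rfl
    obtain ⟨-, had⟩ := hab r₀ hr₀ hr₀1
    have hlt : Nat.card C < Nat.card V := by
      rcases had with ⟨h3, h2⟩ | ⟨h4, h2⟩ <;> rw [hd, ha, h2] <;> simp [*]
    obtain ⟨v, hv, hvC⟩ : ∃ v ∈ V, v ∉ C := SetLike.not_le_iff_exists.1 fun h =>
      absurd (Subgroup.card_le_of_le h) (by omega)
    obtain ⟨hs, hn⟩ := horb v hv hvC
    have h9 := Set.ncard_le_ncard hs (Set.toFinite _)
    rw [hn, hsdiff] at h9
    rcases had with ⟨h3, h2⟩ | ⟨h4, h2⟩
    · rw [hd, h2, ha, h3] at h9; norm_num at h9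
    · have hdne : ((V : Set Y) \ C).ncard ≠ ((fun s : R => (s : Y) * v * (s : Y)⁻¹) '' Set.univ).ncard := by
        rw [hn, hsdiff, hd, h2, ha, h4]; norm_num
      obtain ⟨v', hv', hv'O⟩ := Set.exists_mem_notMem_of_ncard_lt_ncard
        (lt_of_le_of_ne (Set.ncard_le_ncard hs (Set.toFinite _)) (Ne.symm hdne)) (Set.toFinite _)
      obtain ⟨hs', hn'⟩ := horb v' hv'.1 hv'.2
      have hdis : Disjoint ((fun s : R => (s : Y) * v * (s : Y)⁻¹) '' Set.univ)
          ((fun s : R => (s : Y) * v' * (s : Y)⁻¹) '' Set.univ) := by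
        rw [Set.disjoint_left]
        rintro _ ⟨s, -, rfl⟩ ⟨t, -, e⟩
        refine hv'O ⟨t⁻¹ * s, trivial, ?_⟩
        have e' : (t : Y) * v' * (t : Y)⁻¹ = (s : Y) * v * (s : Y)⁻¹ := e
        show ((t⁻¹ * s : R) : Y) * v * ((t⁻¹ * s : R) : Y)⁻¹ = v'
        rw [Subgroup.coe_mul, InvMemClass.coe_inv,
          show (t : Y)⁻¹ * s * v * ((t : Y)⁻¹ * s)⁻¹ = (t : Y)⁻¹ * ((s : Y) * v * (s : Y)⁻¹) * t by group, ← e']
        group
      have h18 := Set.ncard_le_ncard (Set.union_subset hs hs') (Set.toFinite _)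
      rw [Set.ncard_union_eq hdis (Set.toFinite _) (Set.toFinite _), hn, hn', hsdiff, hd, h2, ha, h4] at h18
      norm_num at h18
  -- the order of `V`
  have ha' : a = 4 := by
    have h0 := hmodK R le_rfl
    rw [hCR, Subgroup.card_bot, ha] at h0
    by_contra hne4
    have ha2 : a ≤ 2 := by
      by_contra hlt
      rw [show a = 3 by omega] at h0
      norm_num at h0
    let ρ : ↥R →* Perm ↥V := (MulAction.toPermHom (MulAut ↥V) ↥V).comp (MulAut.conjNormal.comp R.subtype)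
    have hρ : Function.Injective ρ := by
      rw [injective_iff_map_eq_one]
      intro r hr
      refine Subtype.ext (hRV r r.2 (hC ?_))
      rw [Subgroup.mem_centralizer_iff]
      intro v hv
      have h : (r : Y) * v * (r : Y)⁻¹ = v :=
        congrArg Subtype.val (DFunLike.congr_fun hr (⟨v, hv⟩ : ↥V))
      exact (mul_inv_eq_iff_eq_mul.1 h).symm
    have h := Subgroup.card_dvd_of_injective ρ hρ
    rw [Nat.card_perm, hR9, ha] at h
    interval_cases a <;> norm_num [Nat.factorial] at h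
  have hV16 : Nat.card V = 16 := by rw [ha, ha']; norm_num
  -- the normalizer of `R`
  let NR : Y → Prop := fun y => ∀ r ∈ R, y * r * y⁻¹ ∈ R
  have hNRmul : ∀ x y, NR x → NR y → NR (x * y) := fun x y hx hy r hr => by
    rw [show x * y * r * (x * y)⁻¹ = x * (y * r * y⁻¹) * x⁻¹ by group]
    exact hx _ (hy r hr)
  have hNRR : ∀ s ∈ R, NR s := fun s hs r hr => R.mul_mem (R.mul_mem hs hr) (R.inv_mem hs)
  have hNV : ∀ v ∈ V, NR v → v = 1 := by
    intro v hv hn
    have hm : v ∈ V ⊓ Subgroup.centralizer (R : Set Y) := by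
      refine ⟨hv, Subgroup.mem_centralizer_iff.2 fun r hr => ?_⟩
      have h1 : v * r * v⁻¹ * r⁻¹ ∈ V := by
        rw [show v * r * v⁻¹ * r⁻¹ = v * (r * v⁻¹ * r⁻¹) by group]
        exact V.mul_mem hv (hVn r _ (V.inv_mem hv))
      have h2 := hRV _ (R.mul_mem (hn r hr) (R.inv_mem hr)) h1
      exact (mul_inv_eq_iff_eq_mul.1 (mul_inv_eq_one.1 h2)).symm
    rw [hCR] at hm
    exact Subgroup.mem_bot.1 hm
  have hlift : ∀ σ : Perm (Fin 6), (∀ p ∈ pNineGroup, σ * p * σ⁻¹ ∈ pNineGroup) → σ * σ = 1 →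
      ∃ e, π e = σ ∧ e * e = 1 ∧ NR e := by
    intro σ hσn hσ2
    obtain ⟨y, hy⟩ := hπ σ
    let R₁ := R.map (MulAut.conj y).toMonoidHom
    have hR₁P : R₁ ≤ P₁ := by
      rintro _ ⟨r, hr, rfl⟩
      show y * r * y⁻¹ ∈ P₁
      rw [hP₁, Subgroup.mem_comap, map_mul, map_mul, map_inv, hy]
      exact hσn _ (hπR ▸ ⟨r, hr, rfl⟩)
    obtain ⟨⟨p, hp⟩, hpc⟩ := conj_nine (G := ↥P₁) (k := 4) (by rw [hP₁card, hV16]; norm_num)
      (R₁.subgroupOf P₁) (R.subgroupOf P₁)
      (by rw [Nat.card_congr (Subgroup.subgroupOfEquivOfLe hR₁P).toEquiv,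
        Subgroup.card_map_of_injective (MulAut.conj y).injective, hR9])
      (by rw [Nat.card_congr (Subgroup.subgroupOfEquivOfLe hRP₁).toEquiv, hR9])
    have hz : NR (p * y) := by
      intro r hr
      rw [show p * y * r * (p * y)⁻¹ = p * (y * r * y⁻¹) * p⁻¹ by group]
      exact hpc ⟨y * r * y⁻¹, hR₁P ⟨r, hr, rfl⟩⟩ ⟨r, hr, rfl⟩
    obtain ⟨r, hr, hrp⟩ : π p ∈ R.map π := by rw [hπR]; exact hp
    have he : π (r⁻¹ * (p * y)) = σ := by
      rw [map_mul, map_inv, map_mul, hrp, inv_mul_cancel_left, hy]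
    have hn : NR (r⁻¹ * (p * y)) := hNRmul _ _ (hNRR _ (R.inv_mem hr)) hz
    exact ⟨_, he, hNV _ (hkerV _ (by rw [map_mul, he, hσ2])) (hNRmul _ _ hn hn), hn⟩
  have hrepn : ∀ i, ∀ p ∈ pNineGroup, reps i * p * (reps i)⁻¹ ∈ pNineGroup := by
    rintro i _ ⟨c, rfl⟩
    exact reps_normalize i c
  have hinj : ∀ x y, NR x → y ∈ R → π x = π y → x = y := by
    intro x y hx hy hxy
    exact (inv_mul_eq_one.1 (hNV _ (hkerV _ (by rw [map_mul, map_inv, hxy, inv_mul_cancel]))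
      (hNRmul _ _ (hNRR _ (R.inv_mem hy)) hx))).symm
  -- an involution with a small centralizer on `V`
  obtain ⟨e, he1, he2, heL⟩ : ∃ e, π e ≠ 1 ∧ e * e = 1 ∧
      Nat.card ↥(V ⊓ Subgroup.centralizer {e}) ≤ 4 := by
    by_contra hall
    push Not at hall
    have h8 : ∀ e, π e ≠ 1 → e * e = 1 → 8 ≤ Nat.card ↥(V ⊓ Subgroup.centralizer {e}) := by
      intro e he1 he2
      have h := hall e he1 he2
      obtain ⟨b, -, hb⟩ := (Nat.dvd_prime_pow Nat.prime_two).1
        (ha ▸ Subgroup.card_dvd_of_le (inf_le_left : V ⊓ Subgroup.centralizer {e} ≤ V))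
      rw [hb] at h ⊢
      have : 3 ≤ b := by
        by_contra hlt
        have := Nat.pow_le_pow_right (by norm_num : 0 < 2) (by omega : b ≤ 2)
        omega
      exact Nat.pow_le_pow_right (by norm_num : 0 < 2) this
    have hr4 : ∀ r ∈ R, 4 ≤ Nat.card ↥(V ⊓ Subgroup.centralizer {r}) := by
      intro r hr
      obtain ⟨c, hc'⟩ : π r ∈ pNineGroup := hπR ▸ ⟨r, hr, rfl⟩
      obtain ⟨hd2, hd1⟩ := double_invol c
      obtain ⟨e₁, he₁, he₁2, he₁n⟩ := hlift (reps 1) (hrepn 1) (reps_invol 1).1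
      obtain ⟨e₂, he₂, he₂2, he₂n⟩ := hlift (reps 1 * pNine c) (by
        intro p hp
        rw [show reps 1 * pNine c * p * (reps 1 * pNine c)⁻¹ =
          reps 1 * (pNine c * p * (pNine c)⁻¹) * (reps 1)⁻¹ by group]
        exact hrepn 1 _ (pNineGroup.mul_mem (pNineGroup.mul_mem ⟨c, rfl⟩ hp)
          (pNineGroup.inv_mem ⟨c, rfl⟩))) hd2
      have hre : e₁ * e₂ = r := hinj _ _ (hNRmul _ _ he₁n he₂n) hr (by
        rw [map_mul, he₁, he₂, ← hc', ← mul_assoc, (reps_invol 1).1, one_mul])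
      have h1 := h8 e₁ (by rw [he₁]; exact (reps_invol 1).2) he₁2
      have h2 := h8 e₂ (by rw [he₂]; exact hd1) he₂2
      set A := V ⊓ Subgroup.centralizer {e₁}
      set B := V ⊓ Subgroup.centralizer {e₂}
      have hAi := Subgroup.card_mul_index (A.subgroupOf V)
      have hBi := Subgroup.card_mul_index (B.subgroupOf V)
      rw [Nat.card_congr (Subgroup.subgroupOfEquivOfLe (inf_le_left : A ≤ V)).toEquiv, hV16] at hAi
      rw [Nat.card_congr (Subgroup.subgroupOfEquivOfLe (inf_le_left : B ≤ V)).toEquiv, hV16] at hBi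
      change Nat.card ↥A * _ = 16 at hAi
      change Nat.card ↥B * _ = 16 at hBi
      have hiA : (A.subgroupOf V).index ≤ 2 := by
        by_contra hlt; have := Nat.mul_le_mul h1 (Nat.succ_le_of_lt (not_le.1 hlt)); omega
      have hiB : (B.subgroupOf V).index ≤ 2 := by
        by_contra hlt; have := Nat.mul_le_mul h2 (Nat.succ_le_of_lt (not_le.1 hlt)); omega
      have hI := Subgroup.card_mul_index (A.subgroupOf V ⊓ B.subgroupOf V)
      have hile : (A.subgroupOf V ⊓ B.subgroupOf V).index ≤ 4 :=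
        Subgroup.index_inf_le.trans ((Nat.mul_le_mul hiA hiB).trans (by norm_num))
      rw [hV16] at hI
      have h4 : 4 ≤ Nat.card ↥(A.subgroupOf V ⊓ B.subgroupOf V) := by
        by_contra hlt; have := Nat.mul_le_mul (Nat.le_of_lt_succ (not_le.1 hlt)) hile; omega
      refine h4.trans (Nat.card_le_card_of_injective (fun v => ⟨v.1.1, v.1.2, ?_⟩) ?_)
      · show (v.1 : Y) ∈ Subgroup.centralizer {r}
        have ha1 := Subgroup.mem_centralizer_singleton_iff.1 (Subgroup.mem_subgroupOf.1 v.2.1).2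
        have hb1 := Subgroup.mem_centralizer_singleton_iff.1 (Subgroup.mem_subgroupOf.1 v.2.2).2
        rw [Subgroup.mem_centralizer_singleton_iff, ← hre, ← mul_assoc, ha1, mul_assoc, hb1, mul_assoc]
      · intro x y h
        have h' := congrArg Subtype.val h
        exact Subtype.ext (Subtype.ext h')
    have heq4 : ∀ r ∈ R, r ≠ 1 → Nat.card ↥(V ⊓ Subgroup.centralizer {r}) = 4 := by
      intro r hr hr1
      obtain ⟨b, hba, hb, hmod⟩ := hR1 r hr hr1
      have h := hr4 r hr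
      rw [hb] at h ⊢
      rw [ha'] at hba hmod
      interval_cases b <;> omega
    have hex : ∀ c, ∃ r ∈ R, π r = pNine c := fun c => by
      have hm : pNine c ∈ R.map π := hπR ▸ ⟨c, rfl⟩
      exact hm
    obtain ⟨r₁, hr₁, hπ₁⟩ := hex (1, 0)
    obtain ⟨r₂, hr₂, hπ₂⟩ := hex (0, 1)
    have h12 : r₁ * r₂ = r₂ * r₁ := hinj _ _ (hNRR _ (R.mul_mem hr₁ hr₂)) (R.mul_mem hr₂ hr₁) (by
      rw [map_mul, map_mul, hπ₁, hπ₂]; decide +kernel)
    have hne : ∀ r ∈ R, ∀ c, π r = pNine c → c ≠ (0, 0) → r ≠ 1 := by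
      intro r _ c hrc hc0 hr1
      rw [hr1, map_one] at hrc
      exact hc0 (pNine_inj (hrc.symm.trans (by simp [pNine])))
    set A := V ⊓ Subgroup.centralizer {r₁}
    set B := V ⊓ Subgroup.centralizer {r₂}
    have hA4 : Nat.card A = 4 := heq4 _ hr₁ (hne _ hr₁ _ hπ₁ (by decide))
    have hB4 : Nat.card B = 4 := heq4 _ hr₂ (hne _ hr₂ _ hπ₂ (by decide))
    have hAB : ∀ u ∈ A, u ∈ B → u = 1 := by
      intro u huA huB
      have hm : u ∈ V ⊓ Subgroup.centralizer (R : Set Y) := by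
        refine ⟨huA.1, Subgroup.mem_centralizer_iff.2 fun r hr => ?_⟩
        obtain ⟨c, hc'⟩ : π r ∈ pNineGroup := hπR ▸ ⟨r, hr, rfl⟩
        have hr' : r₁ ^ (c.1 : ℕ) * r₂ ^ (c.2 : ℕ) = r := hinj _ _
          (hNRR _ (R.mul_mem (R.pow_mem hr₁ _) (R.pow_mem hr₂ _))) hr (by
            rw [map_mul, map_pow, map_pow, hπ₁, hπ₂, ← hc']; simp [pNine])
        rw [← hr']
        have c1 : Commute u r₁ := Subgroup.mem_centralizer_singleton_iff.1 huA.2
        have c2 : Commute u r₂ := Subgroup.mem_centralizer_singleton_iff.1 huB.2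
        exact ((c1.pow_right _).mul_right (c2.pow_right _)).symm.eq
      rw [hCR] at hm
      exact Subgroup.mem_bot.1 hm
    let m : ↥A × ↥B → ↥V := fun q => ⟨q.1 * q.2, V.mul_mem q.1.2.1 q.2.2.1⟩
    have hminj : ∀ u ∈ A, ∀ w ∈ B, ∀ u' ∈ A, ∀ w' ∈ B, u * w = u' * w' → u = u' ∧ w = w' := by
      intro u hu w hw u' hu' w' hw' h
      have hz : u'⁻¹ * u = w' * w⁻¹ := by
        rw [inv_mul_eq_iff_eq_mul, ← mul_assoc, ← h, mul_inv_cancel_right]
      have h1 := hAB _ (A.mul_mem (A.inv_mem hu') hu) (hz ▸ B.mul_mem hw' (B.inv_mem hw))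
      exact ⟨(inv_mul_eq_one.1 h1).symm, (mul_inv_eq_one.1 (hz ▸ h1)).symm⟩
    have hm : Function.Bijective m := (Nat.bijective_iff_injective_and_card m).2 ⟨fun x y h => by
      obtain ⟨h1, h2⟩ := hminj _ x.1.2 _ x.2.2 _ y.1.2 _ y.2.2 (congrArg Subtype.val h)
      exact Prod.ext (Subtype.ext h1) (Subtype.ext h2), by rw [Nat.card_prod, hA4, hB4, hV16]⟩
    have h12ne : r₁ * r₂ ≠ 1 := hne _ (R.mul_mem hr₁ hr₂) (1, 1)
      (by rw [map_mul, hπ₁, hπ₂]; decide +kernel) (by decide)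
    have hD := heq4 _ (R.mul_mem hr₁ hr₂) h12ne
    obtain ⟨v, hvD, hv1⟩ : ∃ v ∈ V ⊓ Subgroup.centralizer {r₁ * r₂}, v ≠ 1 :=
      (Subgroup.bot_or_exists_ne_one _).resolve_left fun h => by
        rw [h, Subgroup.card_bot] at hD; omega
    obtain ⟨⟨⟨u, hu⟩, ⟨w, hw⟩⟩, huw⟩ := hm.2 ⟨v, hvD.1⟩
    have huw' : u * w = v := congrArg Subtype.val huw
    have hpres : ∀ (r s : Y), s * r = r * s → ∀ x ∈ V ⊓ Subgroup.centralizer {r},
        s * x * s⁻¹ ∈ V ⊓ Subgroup.centralizer {r} := by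
      intro r s hsr x hx
      refine ⟨hVn s x hx.1, Subgroup.mem_centralizer_singleton_iff.2 ?_⟩
      have cx : Commute r x := (Subgroup.mem_centralizer_singleton_iff.1 hx.2).symm
      have cs : Commute r s := hsr.symm
      exact ((cs.mul_right cx).mul_right cs.inv_right).symm.eq
    have cw : r₂ * w * r₂⁻¹ = w :=
      mul_inv_eq_iff_eq_mul.2 (Subgroup.mem_centralizer_singleton_iff.1 hw.2).symm
    have hu' := hpres r₁ r₂ h12.symm u hu
    have cu : r₁ * (r₂ * u * r₂⁻¹) * r₁⁻¹ = r₂ * u * r₂⁻¹ :=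
      mul_inv_eq_iff_eq_mul.2 (Subgroup.mem_centralizer_singleton_iff.1 hu'.2).symm
    have hv : r₁ * r₂ * v * (r₁ * r₂)⁻¹ = v :=
      mul_inv_eq_iff_eq_mul.2 (Subgroup.mem_centralizer_singleton_iff.1 hvD.2).symm
    have heq : r₂ * u * r₂⁻¹ * (r₁ * w * r₁⁻¹) = u * w := by
      calc r₂ * u * r₂⁻¹ * (r₁ * w * r₁⁻¹)
          = r₁ * (r₂ * u * r₂⁻¹) * r₁⁻¹ * (r₁ * (r₂ * w * r₂⁻¹) * r₁⁻¹) := by rw [cu, cw]
        _ = r₁ * r₂ * (u * w) * (r₁ * r₂)⁻¹ := by group
        _ = u * w := by rw [huw', hv]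
    obtain ⟨eu, ew⟩ := hminj _ hu' _ (hpres r₂ r₁ h12 w hw) _ hu _ hw heq
    have hu1 := hAB u hu ⟨hu.1,
      Subgroup.mem_centralizer_singleton_iff.2 (mul_inv_eq_iff_eq_mul.1 eu).symm⟩
    have hw1 := hAB w ⟨hw.1,
      Subgroup.mem_centralizer_singleton_iff.2 (mul_inv_eq_iff_eq_mul.1 ew).symm⟩ hw
    exact hv1 (by rw [← huw', hu1, hw1, one_mul])
  -- the commutator map of `e` on `V`
  set σ := π e with hσdef
  have hσ2 : σ * σ = 1 := by rw [hσdef, ← map_mul, he2, map_one]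
  set L := V ⊓ Subgroup.centralizer {e} with hLdef
  let dm : ↥V →* ↥V :=
    { toFun := fun v => ⟨e * v * e⁻¹ * (v : Y)⁻¹, V.mul_mem (hVn e v v.2) (V.inv_mem v.2)⟩
      map_one' := Subtype.ext (by simp)
      map_mul' := fun x y => Subtype.ext (by
        show e * ((x : Y) * y) * e⁻¹ * ((x : Y) * y)⁻¹ =
          e * x * e⁻¹ * (x : Y)⁻¹ * (e * y * e⁻¹ * (y : Y)⁻¹)
        have hcy : e * y * e⁻¹ * (y : Y)⁻¹ * (x : Y)⁻¹ = (x : Y)⁻¹ * (e * y * e⁻¹ * (y : Y)⁻¹) :=
          hc _ (V.mul_mem (hVn e y y.2) (V.inv_mem y.2)) _ (V.inv_mem x.2)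
        calc e * ((x : Y) * y) * e⁻¹ * ((x : Y) * y)⁻¹
            = e * x * e⁻¹ * (e * y * e⁻¹ * (y : Y)⁻¹ * (x : Y)⁻¹) := by group
          _ = e * x * e⁻¹ * ((x : Y)⁻¹ * (e * y * e⁻¹ * (y : Y)⁻¹)) := by rw [hcy]
          _ = e * x * e⁻¹ * (x : Y)⁻¹ * (e * y * e⁻¹ * (y : Y)⁻¹) := by group) }
  have hdL : ∀ v : ↥V, v ∈ dm.ker ↔ (v : Y) ∈ L := by
    intro v
    rw [MonoidHom.mem_ker, ← OneMemClass.coe_eq_one]
    show e * (v : Y) * e⁻¹ * (v : Y)⁻¹ = 1 ↔ _
    rw [mul_inv_eq_one, mul_inv_eq_iff_eq_mul, hLdef, Subgroup.mem_inf,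
      Subgroup.mem_centralizer_singleton_iff]
    exact ⟨fun h => ⟨v.2, h.symm⟩, fun h => h.2.symm⟩
  have hrle : dm.range ≤ dm.ker := by
    rintro _ ⟨v, rfl⟩
    rw [MonoidHom.mem_ker, ← OneMemClass.coe_eq_one]
    show e * (dm v : Y) * e⁻¹ * (dm v : Y)⁻¹ = 1
    have hinv : (dm v : Y)⁻¹ = dm v := inv_eq_of_mul_eq_one_right (hsq _ (dm v).2)
    have hvv : e * e * (v : Y) * (e * e)⁻¹ = v := by rw [he2]; group
    calc e * (dm v : Y) * e⁻¹ * (dm v : Y)⁻¹
        = e * (e * v * e⁻¹ * (v : Y)⁻¹) * e⁻¹ * (e * v * e⁻¹ * (v : Y)⁻¹) := by rw [hinv]; rfl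
      _ = e * e * (v : Y) * (e * e)⁻¹ * (v : Y)⁻¹ := by group
      _ = 1 := by rw [hvv, mul_inv_cancel]
  have hkerL : Nat.card dm.ker = Nat.card L := Nat.card_congr
    { toFun := fun v => ⟨v.1, (hdL _).1 v.2⟩
      invFun := fun v => ⟨⟨v.1, v.2.1⟩, (hdL _).2 v.2⟩
      left_inv := fun v => rfl
      right_inv := fun v => rfl }
  obtain ⟨hL4, hrk⟩ : Nat.card L = 4 ∧ dm.range = dm.ker := by
    have h := Subgroup.card_mul_index dm.ker
    rw [Subgroup.index_ker, hkerL, hV16] at h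
    have h2 := Subgroup.card_le_of_le hrle
    rw [hkerL] at h2
    have h3 : Nat.card L * Nat.card dm.range ≤ Nat.card L * Nat.card L := Nat.mul_le_mul_left _ h2
    have hL : Nat.card L = 4 := by
      by_contra hne'
      have : Nat.card L * Nat.card L ≤ 3 * 3 := Nat.mul_le_mul (by omega) (by omega)
      omega
    exact ⟨hL, Subgroup.eq_of_le_of_card_ge hrle (by rw [hkerL, hL]; rw [hL] at h; omega)⟩
  -- a 2-subgroup of the centralizer of `σ`
  obtain ⟨T₀, hT₀⟩ := Sylow.exists_subgroup_card_pow_prime 2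
    (G := ↥(Subgroup.centralizer ({σ} : Set (Perm (Fin 6))))) (n := 4)
    (by simpa using (centralizer_card_dvd σ hσ2 he1).1)
  set T := T₀.map (Subgroup.centralizer ({σ} : Set (Perm (Fin 6)))).subtype with hTdef
  have hT16 : Nat.card T = 16 := by
    rw [hTdef, Subgroup.card_map_of_injective (Subgroup.subtype_injective _), hT₀]; norm_num
  have hTc : ∀ t ∈ T, t * σ = σ * t := fun t ht =>
    Subgroup.mem_centralizer_singleton_iff.1 (Subgroup.map_subtype_le _ ht)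
  set H1 := T.comap π with hH1
  have hH1card : Nat.card H1 = 256 := by
    have h := Subgroup.card_mul_index (π.subgroupComap T).ker
    rw [Subgroup.index_ker, MonoidHom.range_eq_top.2 (π.subgroupComap_surjective_of_surjective _ hπ),
      Subgroup.card_top, hT16] at h
    have hk : (π.subgroupComap T).ker = V.subgroupOf H1 := by
      ext x
      rw [MonoidHom.mem_ker, Subgroup.mem_subgroupOf, ← hker, MonoidHom.mem_ker]
      exact Subtype.ext_iff
    have hVH : V ≤ H1 := fun v hv => by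
      rw [hH1, Subgroup.mem_comap, hVker v hv]
      exact T.one_mem
    rw [hk, Nat.card_congr (Subgroup.subgroupOfEquivOfLe hVH).toEquiv, hV16] at h
    exact h.symm
  have hew : ∀ y ∈ H1, ∀ v ∈ V, y * e * y⁻¹ * v * (y * e * y⁻¹)⁻¹ = e * v * e⁻¹ := by
    intro y hy v hv
    have hw : e⁻¹ * (y * e * y⁻¹) ∈ V := hkerV _ (by
      rw [map_mul, map_inv, map_mul, map_mul, map_inv, ← hσdef, hTc _ hy, mul_inv_cancel_right,
        inv_mul_cancel])
    have hcv := hc _ hw v hv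
    calc y * e * y⁻¹ * v * (y * e * y⁻¹)⁻¹
        = e * (e⁻¹ * (y * e * y⁻¹) * v) * (e⁻¹ * (y * e * y⁻¹))⁻¹ * e⁻¹ := by group
      _ = e * (v * (e⁻¹ * (y * e * y⁻¹))) * (e⁻¹ * (y * e * y⁻¹))⁻¹ * e⁻¹ := by rw [hcv]
      _ = e * v * e⁻¹ := by group
  have hLn : ∀ y ∈ H1, ∀ l ∈ L, y * l * y⁻¹ ∈ L := by
    intro y hy l hl
    have hl' : e * l * e⁻¹ = l :=
      mul_inv_eq_iff_eq_mul.2 (Subgroup.mem_centralizer_singleton_iff.1 hl.2).symm
    refine ⟨hVn y l hl.1, Subgroup.mem_centralizer_singleton_iff.2 (mul_inv_eq_iff_eq_mul.1 ?_).symm⟩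
    rw [← hew y hy _ (hVn y l hl.1)]
    calc y * e * y⁻¹ * (y * l * y⁻¹) * (y * e * y⁻¹)⁻¹ = y * (e * l * e⁻¹) * y⁻¹ := by group
      _ = y * l * y⁻¹ := by rw [hl']
  letI : MulAction ↥H1 {l : ↥L // l ≠ 1} :=
    { smul := fun y l => ⟨⟨(y : Y) * l.1 * (y : Y)⁻¹, hLn y y.2 l.1 l.1.2⟩, fun h => l.2 (Subtype.ext
        (conj_eq_one_iff.1 (congrArg Subtype.val h)))⟩
      one_smul := fun l => Subtype.ext (Subtype.ext (by show (1 : Y) * l.1 * 1⁻¹ = l.1; simp))
      mul_smul := fun g h l => Subtype.ext (Subtype.ext (by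
        show ((g : Y) * h) * l.1 * ((g : Y) * h)⁻¹ = g * (h * l.1 * (h : Y)⁻¹) * (g : Y)⁻¹
        group)) }
  let ρ : ↥H1 →* Perm {l : ↥L // l ≠ 1} := MulAction.toPermHom ↥H1 _
  have h128 : 128 ≤ Nat.card ρ.ker := by
    have h3 : Nat.card {l : ↥L // l ≠ 1} = 3 := by
      haveI := Fintype.ofFinite ↥L
      rw [Nat.card_eq_fintype_card, Fintype.card_subtype_compl, Fintype.card_subtype_eq,
        ← Nat.card_eq_fintype_card, hL4]
    have h1 := Subgroup.card_subgroup_dvd_card ρ.range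
    rw [Nat.card_perm, h3] at h1
    have h2 := Subgroup.card_range_dvd ρ
    rw [hH1card] at h2
    have hle : Nat.card ρ.range ≤ 2 :=
      Nat.le_of_dvd (by norm_num) ((by decide : Nat.gcd (Nat.factorial 3) 256 = 2) ▸ Nat.dvd_gcd h1 h2)
    have h := Subgroup.card_mul_index ρ.ker
    rw [Subgroup.index_ker, hH1card] at h
    have := Nat.mul_le_mul_left (Nat.card ρ.ker) hle
    omega
  set H := ρ.ker.map H1.subtype with hHdef
  have hH128 : 128 ≤ Nat.card H := by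
    rw [hHdef, Subgroup.card_map_of_injective H1.subtype_injective]; exact h128
  have hHL : ∀ h ∈ H, ∀ l ∈ L, h * l * h⁻¹ = l := by
    rintro _ ⟨y, hy, rfl⟩ l hl
    by_cases hl1 : l = 1
    · rw [hl1]; simp
    · exact congrArg (fun x : {l : ↥L // l ≠ 1} => (x.1 : Y))
        (DFunLike.congr_fun (MonoidHom.mem_ker.1 hy) (⟨⟨l, hl⟩, fun e' => hl1 (congrArg Subtype.val e')⟩ : {l : ↥L // l ≠ 1}))
  have hHV : ∀ h ∈ H, ∀ v ∈ V, h * v * h⁻¹ * v⁻¹ ∈ L := by
    intro h hh v hv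
    have hh1 : h ∈ H1 := Subgroup.map_subtype_le _ hh
    refine (hdL ⟨_, V.mul_mem (hVn h v hv) (V.inv_mem hv)⟩).1 ?_
    rw [MonoidHom.mem_ker, show (⟨_, V.mul_mem (hVn h v hv) (V.inv_mem hv)⟩ : ↥V) =
      ⟨h * v * h⁻¹, hVn h v hv⟩ * (⟨v, hv⟩ : ↥V)⁻¹ from rfl, map_mul, map_inv, mul_inv_eq_one]
    refine Subtype.ext ?_
    have hl : (dm ⟨v, hv⟩ : Y) ∈ L := (hdL _).1 (hrle ⟨_, rfl⟩)
    show e * (h * v * h⁻¹) * e⁻¹ * (h * v * h⁻¹)⁻¹ = (dm ⟨v, hv⟩ : Y)
    rw [← hHL h hh _ hl]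
    show _ = h * (e * v * e⁻¹ * v⁻¹) * h⁻¹
    rw [← hew h⁻¹ (H1.inv_mem hh1) v hv]
    group
  have hH2 : ∀ h ∈ H, h * h ∈ L := by
    intro h hh
    have hh2 : h * h ∈ V := hC (by
      rw [Subgroup.mem_centralizer_iff]
      intro v hv
      have hl := hHV h hh v hv
      set l := h * v * h⁻¹ * v⁻¹ with hldef
      have hll : l * l = 1 := hsq l hl.1
      refine (mul_inv_eq_iff_eq_mul.1 ?_).symm
      calc h * h * v * (h * h)⁻¹ = h * l * h⁻¹ * (h * v * h⁻¹) := by rw [hldef]; group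
        _ = l * (l * v) := by rw [hHL h hh l hl, show h * v * h⁻¹ = l * v by rw [hldef]; group]
        _ = v := by rw [← mul_assoc, hll, one_mul])
    by_cases hπh : π h = 1
    · rw [hsq h (hkerV h hπh)]
      exact L.one_mem
    · obtain ⟨i, hi⟩ := (centralizer_card_dvd (π h) (by rw [← map_mul, hVker _ hh2]) hπh).2
      obtain ⟨g, hg⟩ := isConj_iff.1 hi
      obtain ⟨eᵢ, hei, hei2, -⟩ := hlift (reps i) (hrepn i) (reps_invol i).1
      obtain ⟨G, hG⟩ := hπ g
      set y := G * eᵢ * G⁻¹ with hydef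
      have hy : π y = π h := by rw [hydef, map_mul, map_mul, map_inv, hei, hG, hg]
      have hy2 : y * y = 1 := by
        rw [hydef, show G * eᵢ * G⁻¹ * (G * eᵢ * G⁻¹) = G * (eᵢ * eᵢ) * G⁻¹ by group, hei2]; group
      have hv : y⁻¹ * h ∈ V := hkerV _ (by rw [map_mul, map_inv, hy, inv_mul_cancel])
      set v := y⁻¹ * h with hvdef
      have hhv : h = y * v := by rw [hvdef]; group
      have hyy : y⁻¹ = y := inv_eq_of_mul_eq_one_right hy2
      have hyv : y * v * y = h * v * h⁻¹ := by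
        rw [hhv]
        calc y * v * y = y * v * y⁻¹ := by rw [hyy]
          _ = y * v * v * (y * v)⁻¹ := by group
      have hl := hHV h hh v hv
      set l := h * v * h⁻¹ * v⁻¹ with hldef
      have : h * h = l := by
        calc h * h = y * v * y * v := by rw [hhv]; group
          _ = h * v * h⁻¹ * v := by rw [hyv]
          _ = h * v * h⁻¹ * v⁻¹ := by rw [inv_eq_of_mul_eq_one_right (hsq v hv)]
      rw [this]
      exact hl
  -- the final count
  let L' := L.subgroupOf H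
  haveI : L'.Normal := ⟨fun l hl y => by
    rw [Subgroup.mem_subgroupOf] at hl ⊢
    show (y : Y) * l * (y : Y)⁻¹ ∈ L
    rw [hHL y y.2 _ hl]
    exact hl⟩
  have hexp : ∀ x : ↥H ⧸ L', x * x = 1 := by
    intro x
    obtain ⟨y, rfl⟩ := QuotientGroup.mk'_surjective L' x
    rw [← map_mul, QuotientGroup.mk'_apply, QuotientGroup.eq_one_iff, Subgroup.mem_subgroupOf]
    exact hH2 y y.2
  have hcard := SectionalRank.card_le hr H (QuotientGroup.mk' L') ⊤
    (fun x _ => QuotientGroup.mk'_surjective L' x)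
    ⟨⟨⟨fun x y => Subtype.ext (by
      show (x : ↥H ⧸ L') * y = y * x
      have h1 := hexp ((x : ↥H ⧸ L') * y)
      rw [mul_eq_one_iff_eq_inv, mul_inv_rev, inv_eq_of_mul_eq_one_right (hexp _),
        inv_eq_of_mul_eq_one_right (hexp _)] at h1
      exact h1)⟩⟩, fun x _ => by rw [pow_two]; exact hexp x⟩
  have hL' : Nat.card L' ≤ 4 := by
    rw [← hL4]
    refine Nat.card_le_card_of_injective (fun l : L' => (⟨l.1.1, Subgroup.mem_subgroupOf.1 l.2⟩ : ↥L)) ?_
    intro x y h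
    have h' := congrArg Subtype.val h
    exact Subtype.ext (Subtype.ext h')
  have hidx := Subgroup.card_mul_index L'
  rw [Subgroup.card_top] at hcard
  have := Nat.mul_le_mul hL' (show L'.index ≤ 2 ^ 4 from hcard)
  norm_num at this
  omega

end Cfsg.Agent.Lib.Inv59.RankFour
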