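import Mathlib
import Cfsg.Prelude.Def_Local
import Cfsg.Prelude.Def_CaseTheorems
import Cfsg.Agent.Lib.SectionalRank.Basic
import Cfsg.Agent.Lib.SquareMaps.Basic
import Cfsg.Agent.Lib.Coprime.Commutator
import Cfsg.Agent.Lib.Inv59.RankFour.SixExclusion

/-!
# Chief layers of `O₂` in a group of sectional 2-rank at most 4
-/

set_option autoImplicit false
set_option linter.unusedSectionVars false
set_option linter.style.haveILetI false

namespace Cfsg.Agent.Lib.Inv59.RankFour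

universe u v

variable {G : Type u} [Group G] [Finite G]

/-- An elementary abelian section has order at most `16`. -/
theorem section_le (hr : Cfsg.SectionalPRankLE 2 4 G) (H K : Subgroup G) (hKH : K ≤ H)
    (hn : ∀ h ∈ H, ∀ k ∈ K, h * k * h⁻¹ ∈ K) (hsq : ∀ h ∈ H, h * h ∈ K) :
    Nat.card H ≤ 16 * Nat.card K := by
  let L := K.subgroupOf H
  haveI : L.Normal := ⟨fun l hl h => by
    rw [Subgroup.mem_subgroupOf] at hl ⊢
    exact hn h h.2 _ hl⟩
  have hexp : ∀ x : ↥H ⧸ L, x * x = 1 := by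
    intro x
    obtain ⟨y, rfl⟩ := QuotientGroup.mk'_surjective L x
    rw [← map_mul, QuotientGroup.mk'_apply, QuotientGroup.eq_one_iff, Subgroup.mem_subgroupOf]
    exact hsq y y.2
  have hcard := SectionalRank.card_le hr H (QuotientGroup.mk' L) ⊤
    (fun x _ => QuotientGroup.mk'_surjective L x)
    ⟨⟨⟨fun x y => Subtype.ext (by
      show (x : ↥H ⧸ L) * y = y * x
      have h := hexp ((x : ↥H ⧸ L) * y)
      rw [mul_eq_one_iff_eq_inv, mul_inv_rev, inv_eq_of_mul_eq_one_right (hexp _),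
        inv_eq_of_mul_eq_one_right (hexp _)] at h
      exact h)⟩⟩, fun x _ => by rw [pow_two]; exact hexp x⟩
  have hidx := Subgroup.card_mul_index L
  rw [Subgroup.card_top] at hcard
  rw [← hidx, Nat.card_congr (Subgroup.subgroupOfEquivOfLe hKH).toEquiv, mul_comm 16]
  exact Nat.mul_le_mul_left _ (hcard.trans_eq (by norm_num))

/-- Commutativity of an exponent two subgroup. -/
theorem comm_of_sq {V : Subgroup G} (h2 : ∀ v ∈ V, v * v = 1) {a b : G} (ha : a ∈ V) (hb : b ∈ V) :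
    a * b = b * a := by
  have h := h2 _ (V.mul_mem ha hb)
  calc a * b = (a * b)⁻¹ := eq_inv_of_mul_eq_one_left h
    _ = b * a := by
      rw [mul_inv_rev, inv_eq_of_mul_eq_one_right (h2 a ha), inv_eq_of_mul_eq_one_right (h2 b hb)]

/-- An element of prime order and the number of its fixed points on an invariant set. -/
theorem fixed_modEq {r : ℕ} [hr : Fact r.Prime] {y : G} (hy : orderOf y = r) (S : Set G)
    (hS : ∀ s ∈ S, y * s * y⁻¹ ∈ S) :
    S.ncard % r = {s ∈ S | y * s * y⁻¹ = s}.ncard % r := by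
  have hpow : ∀ (i : ℕ), ∀ s ∈ S, y ^ i * s * (y ^ i)⁻¹ ∈ S := by
    intro i
    induction i with
    | zero => intro s hs; simpa using hs
    | succ i ih =>
      intro s hs
      rw [show y ^ (i + 1) * s * (y ^ (i + 1))⁻¹ = y * (y ^ i * s * (y ^ i)⁻¹) * y⁻¹ by
        rw [pow_succ']; group]
      exact hS _ (ih s hs)
  have hz : ∀ h : ↥(Subgroup.zpowers y), ∀ s ∈ S, (h : G) * s * (h : G)⁻¹ ∈ S := by
    rintro ⟨h, hh⟩ s hs
    obtain ⟨i, hi⟩ := mem_powers_iff_mem_zpowers.2 hh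
    show h * s * h⁻¹ ∈ S
    rw [← hi]
    exact hpow i s hs
  letI : MulAction ↥(Subgroup.zpowers y) ↥S :=
    { smul := fun h s => ⟨(h : G) * s * (h : G)⁻¹, hz h s s.2⟩
      one_smul := fun s => Subtype.ext (by show (1 : G) * s * 1⁻¹ = s; simp)
      mul_smul := fun g h s => Subtype.ext (by
        show ((g : G) * h) * s * ((g : G) * h)⁻¹ = g * (h * s * (h : G)⁻¹) * (g : G)⁻¹
        group) }
  have hp : IsPGroup r ↥(Subgroup.zpowers y) :=
    IsPGroup.of_card (n := 1) (by rw [Nat.card_zpowers, hy, pow_one])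
  have hfix : Nat.card (MulAction.fixedPoints ↥(Subgroup.zpowers y) ↥S) =
      Nat.card ↥{s ∈ S | y * s * y⁻¹ = s} := by
    refine Nat.card_congr
      { toFun := fun s => ⟨s.1.1, s.1.2, congrArg Subtype.val (s.2 ⟨y, Subgroup.mem_zpowers _⟩)⟩
        invFun := fun s => ⟨⟨s.1, s.2.1⟩, ?_⟩
        left_inv := fun s => rfl
        right_inv := fun s => rfl }
    intro h
    obtain ⟨i, hi⟩ := h.2
    refine Subtype.ext ?_
    show (h : G) * (s.1 : G) * (h : G)⁻¹ = s.1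
    have hc : Commute (s.1 : G) y := (mul_inv_eq_iff_eq_mul.1 s.2.2).symm
    have : Commute (s.1 : G) (h : G) := hi ▸ hc.zpow_right i
    rw [← this.eq, mul_inv_cancel_right]
  have hmod := hp.card_modEq_card_fixedPoints (α := ↥S)
  rw [hfix, Nat.card_coe_set_eq, Nat.card_coe_set_eq] at hmod
  exact hmod

/-- A non-centralized elementary abelian group of order at most `16` and an element of prime order. -/
theorem moved (V : Subgroup G) (h2 : ∀ v ∈ V, v * v = 1) (h16 : Nat.card V ≤ 16) {r : ℕ}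
    [Fact r.Prime] {y : G} (hy : orderOf y = r) (hn : ∀ v ∈ V, y * v * y⁻¹ ∈ V) :
    ∃ a b : ℕ, a ≤ 4 ∧ b ≤ a ∧ Nat.card V = 2 ^ a ∧
      Nat.card ↥(V ⊓ Subgroup.centralizer {y}) = 2 ^ b ∧ 2 ^ a % r = 2 ^ b % r ∧
      (b = a → ∀ v ∈ V, y * v * y⁻¹ = v) := by
  haveI := Fact.mk Nat.prime_two
  have hVp : IsPGroup 2 V := fun v => ⟨1, Subtype.ext (by
    rw [pow_one, Subgroup.coe_pow, pow_two]; exact h2 v v.2)⟩
  obtain ⟨a, ha⟩ := IsPGroup.iff_card.1 hVp
  have ha4 : a ≤ 4 := by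
    rw [ha, show (16 : ℕ) = 2 ^ 4 by norm_num] at h16
    exact (Nat.pow_le_pow_iff_right (by norm_num)).1 h16
  obtain ⟨b, hba, hb⟩ := (Nat.dvd_prime_pow Nat.prime_two).1
    (ha ▸ Subgroup.card_dvd_of_le (inf_le_left : V ⊓ Subgroup.centralizer {y} ≤ V))
  refine ⟨a, b, ha4, hba, ha, hb, ?_, fun hab v hv => ?_⟩
  · have h := fixed_modEq hy (V : Set G) hn
    rw [← Nat.card_coe_set_eq] at h
    have he : {s ∈ (V : Set G) | y * s * y⁻¹ = s} = ((V ⊓ Subgroup.centralizer {y} : Subgroup G) : Set G) := by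
      ext s
      simp only [Set.mem_ofPred_eq, SetLike.mem_coe, Subgroup.mem_inf, Subgroup.mem_centralizer_singleton_iff,
        mul_inv_eq_iff_eq_mul]
      exact ⟨fun h => ⟨h.1, h.2.symm⟩, fun h => ⟨h.1, h.2.symm⟩⟩
    rw [he, ← Nat.card_coe_set_eq] at h
    rw [← ha, ← hb]
    exact h
  · have heq := Subgroup.eq_of_le_of_card_ge (inf_le_left : V ⊓ Subgroup.centralizer {y} ≤ V)
      (by rw [ha, hb, hab])
    have hm := heq.symm ▸ hv
    exact mul_inv_eq_iff_eq_mul.2 (Subgroup.mem_centralizer_singleton_iff.1 hm.2).symm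

/-- A chief layer: the factor below a nontrivial normal subgroup of a normal 2-subgroup. -/
theorem exists_layer (Q A : Subgroup G) [Q.Normal] [A.Normal] (hQ : IsPGroup 2 Q) (hA : A ≤ Q)
    (hne : A ≠ ⊥) :
    ∃ N : Subgroup G, N.Normal ∧ N < A ∧ (∀ M : Subgroup G, M.Normal → N ≤ M → M ≤ A → M = N ∨ M = A) ∧
      (∀ a ∈ A, ∀ x ∈ Q, a * x * a⁻¹ * x⁻¹ ∈ N) ∧ (∀ a ∈ A, a * a ∈ N) := by
  haveI := Fact.mk Nat.prime_two
  obtain ⟨N, ⟨hNn, hNA⟩, hmax⟩ :=
    (Set.toFinite {N : Subgroup G | N.Normal ∧ N < A}).exists_maximal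
      ⟨⊥, inferInstance, bot_lt_iff_ne_bot.2 hne⟩
  haveI := hNn
  have hchief : ∀ M : Subgroup G, M.Normal → N ≤ M → M ≤ A → M = N ∨ M = A := by
    intro M hM h1 h2
    by_cases hMA : M = A
    · exact Or.inr hMA
    · exact Or.inl (le_antisymm (hmax ⟨hM, lt_of_le_of_ne h2 hMA⟩ h1) h1)
  let π := QuotientGroup.mk' N
  have hπs : Function.Surjective π := QuotientGroup.mk'_surjective N
  set Ab := A.map π with hAb
  set Qb := Q.map π with hQb
  haveI : Ab.Normal := Subgroup.Normal.map inferInstance π hπs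
  haveI : Qb.Normal := Subgroup.Normal.map inferInstance π hπs
  have hsub : ∀ M : Subgroup (G ⧸ N), M.Normal → M ≤ Ab → M = ⊥ ∨ M = Ab := by
    intro M hM hle
    have h1 : N ≤ M.comap π := fun n hn => by
      rw [Subgroup.mem_comap, show π n = 1 from (QuotientGroup.eq_one_iff n).2 hn]
      exact M.one_mem
    have h2 : M.comap π ≤ A := by
      refine (Subgroup.comap_mono hle).trans ?_
      rw [hAb, Subgroup.comap_map_eq, QuotientGroup.ker_mk', sup_eq_left.2 hNA.le]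
    rcases hchief _ inferInstance h1 h2 with h | h
    · left
      rw [← Subgroup.map_comap_eq_self_of_surjective hπs M, h, QuotientGroup.map_mk'_self]
    · right
      rw [← Subgroup.map_comap_eq_self_of_surjective hπs M, h, hAb]
  obtain ⟨a₀, ha₀, ha₀N⟩ := SetLike.exists_of_lt hNA
  have hAne : π a₀ ≠ 1 := fun h => ha₀N ((QuotientGroup.eq_one_iff a₀).1 h)
  have hQbp : IsPGroup 2 Qb := hQ.map π
  have hAQ : Ab ≤ Qb := Subgroup.map_mono hA
  have hAp : IsPGroup 2 Ab := hQbp.to_le hAQ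
  haveI : Nontrivial ↥Ab :=
    (Subgroup.nontrivial_iff_ne_bot Ab).2 fun h => hAne (Subgroup.mem_bot.1 (h ▸ ⟨a₀, ha₀, rfl⟩))
  -- `Ab` is central in `Qb`
  have hcen : Ab ≤ Subgroup.centralizer (Qb : Set (G ⧸ N)) := by
    have hM : (Ab ⊓ Subgroup.centralizer (Qb : Set (G ⧸ N))).Normal := inferInstance
    rcases hsub _ hM inf_le_left with h | h
    · exfalso
      letI : MulAction ↥Qb ↥Ab :=
        { smul := fun q a => ⟨(q : G ⧸ N) * a * (q : G ⧸ N)⁻¹, (inferInstance : Ab.Normal).conj_mem _ a.2 _⟩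
          one_smul := fun s => Subtype.ext (by show (1 : G ⧸ N) * s * 1⁻¹ = s; simp)
          mul_smul := fun g h s => Subtype.ext (by
            show ((g : G ⧸ N) * h) * s * ((g : G ⧸ N) * h)⁻¹ = g * (h * s * (h : G ⧸ N)⁻¹) * (g : G ⧸ N)⁻¹
            group) }
      obtain ⟨k, hk⟩ := IsPGroup.iff_card.1 hAp
      have hk0 : k ≠ 0 := fun e => by
        rw [e, pow_zero] at hk
        exact (Finite.one_lt_card (α := ↥Ab)).ne' hk
      have h1 : (1 : ↥Ab) ∈ MulAction.fixedPoints ↥Qb ↥Ab := fun q => Subtype.ext (by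
        show (q : G ⧸ N) * 1 * (q : G ⧸ N)⁻¹ = 1; simp)
      obtain ⟨b, hb, hb1⟩ := hQbp.exists_fixed_point_of_prime_dvd_card_of_fixed_point (α := ↥Ab)
        (hk ▸ dvd_pow_self 2 hk0) h1
      have : (b : G ⧸ N) ∈ Ab ⊓ Subgroup.centralizer (Qb : Set (G ⧸ N)) :=
        ⟨b.2, Subgroup.mem_centralizer_iff.2 fun q hq =>
          mul_inv_eq_iff_eq_mul.1 (congrArg Subtype.val (hb ⟨q, hq⟩))⟩
      rw [h, Subgroup.mem_bot] at this
      exact hb1 (Subtype.ext this.symm)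
    · exact inf_eq_left.1 h
  have hcomm : ∀ a ∈ Ab, ∀ b ∈ Ab, a * b = b * a := fun a ha b hb =>
    (Subgroup.mem_centralizer_iff.1 (hcen ha) b (hAQ hb)).symm
  let Om : Subgroup (G ⧸ N) :=
    { carrier := {a | a ∈ Ab ∧ a * a = 1}
      one_mem' := ⟨Ab.one_mem, one_mul 1⟩
      mul_mem' := by
        rintro a b ⟨ha, ha2⟩ ⟨hb, hb2⟩
        refine ⟨Ab.mul_mem ha hb, ?_⟩
        calc a * b * (a * b) = a * (b * a) * b := by group
          _ = a * (a * b) * b := by rw [hcomm b hb a ha]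
          _ = 1 := by rw [← mul_assoc, ha2, one_mul, hb2]
      inv_mem' := by
        rintro a ⟨ha, ha2⟩
        exact ⟨Ab.inv_mem ha, by rw [← mul_inv_rev, ha2, inv_one]⟩ }
  haveI : Om.Normal := ⟨fun a ha g => ⟨(inferInstance : Ab.Normal).conj_mem a ha.1 g, by
    rw [show g * a * g⁻¹ * (g * a * g⁻¹) = g * (a * a) * g⁻¹ by group, ha.2]; simp⟩⟩
  have hOm : Om = Ab := by
    refine (hsub Om inferInstance fun a ha => ha.1).resolve_left fun h => ?_
    obtain ⟨k, hk⟩ := IsPGroup.iff_card.1 hAp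
    have hk0 : k ≠ 0 := fun e => by
      rw [e, pow_zero] at hk
      exact (Finite.one_lt_card (α := ↥Ab)).ne' hk
    obtain ⟨b, hb⟩ := exists_prime_orderOf_dvd_card' (G := ↥Ab) 2 (hk ▸ dvd_pow_self 2 hk0)
    have hbm : (b : G ⧸ N) ∈ Om := by
      refine ⟨b.2, ?_⟩
      have := congrArg Subtype.val (pow_orderOf_eq_one b)
      rwa [hb, Subgroup.coe_pow, pow_two] at this
    rw [h, Subgroup.mem_bot] at hbm
    rw [show b = 1 from Subtype.ext hbm, orderOf_one] at hb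
    norm_num at hb
  refine ⟨N, hNn, hNA, hchief, fun a ha x hx => ?_, fun a ha => ?_⟩
  · rw [← QuotientGroup.eq_one_iff]
    show π (a * x * a⁻¹ * x⁻¹) = 1
    rw [map_mul, map_mul, map_mul, map_inv, map_inv,
      ← Subgroup.mem_centralizer_iff.1 (hcen ⟨a, ha, rfl⟩) (π x) ⟨x, hx, rfl⟩]
    group
  · rw [← QuotientGroup.eq_one_iff]
    have hm : π a ∈ Om := hOm.symm ▸ ⟨a, ha, rfl⟩
    exact (map_mul π a a).trans hm.2

/-- Two involutory automorphisms of an elementary abelian group of order `16` without common fixed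
points: the fixed group of each has order four and consists of commutators. -/
theorem invol_fix (V : Subgroup G) [V.Normal] (h2 : ∀ v ∈ V, v * v = 1) (hV : Nat.card V = 16)
    (s s' : G) (hs : ∀ v ∈ V, s * (s * v * s⁻¹) * s⁻¹ = v)
    (hs' : ∀ v ∈ V, s' * (s' * v * s'⁻¹) * s'⁻¹ = v)
    (hfree : ∀ v ∈ V, s * v * s⁻¹ = v → s' * v * s'⁻¹ = v → v = 1) :
    Nat.card ↥(V ⊓ Subgroup.centralizer {s}) = 4 ∧
      ∀ v ∈ V ⊓ Subgroup.centralizer {s}, ∃ w ∈ V, s * w * s⁻¹ * w⁻¹ = v := by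
  have hVn : ∀ (y : G), ∀ w ∈ V, y * w * y⁻¹ ∈ V := fun y w hw => (inferInstance : V.Normal).conj_mem w hw y
  have hfix : ∀ (s v : G), v ∈ V → (v ∈ V ⊓ Subgroup.centralizer {s} ↔ s * v * s⁻¹ = v) := by
    intro s v hv
    rw [Subgroup.mem_inf, Subgroup.mem_centralizer_singleton_iff, mul_inv_eq_iff_eq_mul]
    exact ⟨fun h => h.2.symm, fun h => ⟨hv, h.symm⟩⟩
  have key : ∀ s : G, (∀ v ∈ V, s * (s * v * s⁻¹) * s⁻¹ = v) →
      4 ≤ Nat.card ↥(V ⊓ Subgroup.centralizer {s}) ∧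
      (Nat.card ↥(V ⊓ Subgroup.centralizer {s}) ≤ 4 →
        ∀ v ∈ V ⊓ Subgroup.centralizer {s}, ∃ w ∈ V, s * w * s⁻¹ * w⁻¹ = v) := by
    intro s hs
    let dm : ↥V →* ↥V :=
      { toFun := fun v => ⟨s * v * s⁻¹ * (v : G)⁻¹, V.mul_mem (hVn s v v.2) (V.inv_mem v.2)⟩
        map_one' := Subtype.ext (by simp)
        map_mul' := fun x y => Subtype.ext (by
          show s * ((x : G) * y) * s⁻¹ * ((x : G) * y)⁻¹ =
            s * x * s⁻¹ * (x : G)⁻¹ * (s * y * s⁻¹ * (y : G)⁻¹)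
          have hcy : s * y * s⁻¹ * (y : G)⁻¹ * (x : G)⁻¹ = (x : G)⁻¹ * (s * y * s⁻¹ * (y : G)⁻¹) :=
            comm_of_sq h2 (V.mul_mem (hVn s y y.2) (V.inv_mem y.2)) (V.inv_mem x.2)
          calc s * ((x : G) * y) * s⁻¹ * ((x : G) * y)⁻¹
              = s * x * s⁻¹ * (s * y * s⁻¹ * (y : G)⁻¹ * (x : G)⁻¹) := by group
            _ = s * x * s⁻¹ * ((x : G)⁻¹ * (s * y * s⁻¹ * (y : G)⁻¹)) := by rw [hcy]
            _ = s * x * s⁻¹ * (x : G)⁻¹ * (s * y * s⁻¹ * (y : G)⁻¹) := by group) }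
    have hdL : ∀ v : ↥V, v ∈ dm.ker ↔ (v : G) ∈ V ⊓ Subgroup.centralizer {s} := by
      intro v
      rw [MonoidHom.mem_ker, ← OneMemClass.coe_eq_one, hfix s v v.2]
      exact mul_inv_eq_one
    have hrle : dm.range ≤ dm.ker := by
      rintro _ ⟨v, rfl⟩
      rw [hdL, hfix s _ (dm v).2]
      show s * (s * (v : G) * s⁻¹ * (v : G)⁻¹) * s⁻¹ = s * (v : G) * s⁻¹ * (v : G)⁻¹
      calc s * (s * (v : G) * s⁻¹ * (v : G)⁻¹) * s⁻¹
          = s * (s * (v : G) * s⁻¹) * s⁻¹ * (s * v * s⁻¹)⁻¹ := by group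
        _ = v * (s * v * s⁻¹)⁻¹ := by rw [hs v v.2]
        _ = (v : G)⁻¹ * (s * v * s⁻¹) := by
          rw [inv_eq_of_mul_eq_one_right (h2 _ (hVn s v v.2)), inv_eq_of_mul_eq_one_right (h2 _ v.2)]
        _ = s * (v : G) * s⁻¹ * (v : G)⁻¹ := comm_of_sq h2 (V.inv_mem v.2) (hVn s v v.2)
    have hkerL : Nat.card dm.ker = Nat.card ↥(V ⊓ Subgroup.centralizer {s}) := Nat.card_congr
      { toFun := fun v => ⟨v.1, (hdL _).1 v.2⟩
        invFun := fun v => ⟨⟨v.1, v.2.1⟩, (hdL _).2 v.2⟩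
        left_inv := fun v => rfl
        right_inv := fun v => rfl }
    have h := Subgroup.card_mul_index dm.ker
    rw [Subgroup.index_ker, hV, hkerL] at h
    have h2' := Subgroup.card_le_of_le hrle
    rw [hkerL] at h2'
    set L := Nat.card ↥(V ⊓ Subgroup.centralizer {s}) with hLdef
    refine ⟨?_, fun hle v hv => ?_⟩
    · by_contra hlt
      have : L * Nat.card dm.range ≤ 3 * 3 := Nat.mul_le_mul (by omega) (by omega)
      omega
    · have hrk : dm.range = dm.ker := Subgroup.eq_of_le_of_card_ge hrle (by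
        rw [hkerL]
        by_contra hlt
        have : L * Nat.card dm.range ≤ 4 * 3 := Nat.mul_le_mul hle (by omega)
        omega)
      obtain ⟨w, hw⟩ : (⟨v, hv.1⟩ : ↥V) ∈ dm.range := hrk ▸ (hdL ⟨v, hv.1⟩).2 hv
      exact ⟨w, w.2, congrArg Subtype.val hw⟩
  obtain ⟨h4, hc4⟩ := key s hs
  obtain ⟨h4', -⟩ := key s' hs'
  set A := V ⊓ Subgroup.centralizer {s}
  set B := V ⊓ Subgroup.centralizer {s'}
  let m : ↥A × ↥B → ↥V := fun q => ⟨q.1 * q.2, V.mul_mem q.1.2.1 q.2.2.1⟩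
  have hm : Function.Injective m := by
    rintro ⟨⟨u, hu⟩, ⟨w, hw⟩⟩ ⟨⟨u', hu'⟩, ⟨w', hw'⟩⟩ h
    have h' : u * w = u' * w' := congrArg Subtype.val h
    have hz : u'⁻¹ * u = w' * w⁻¹ := by
      rw [inv_mul_eq_iff_eq_mul, ← mul_assoc, ← h', mul_inv_cancel_right]
    have hzA := A.mul_mem (A.inv_mem hu') hu
    have hzB : u'⁻¹ * u ∈ B := hz ▸ B.mul_mem hw' (B.inv_mem hw)
    have h1 := hfree _ hzA.1 ((hfix s _ hzA.1).1 hzA) ((hfix s' _ hzA.1).1 hzB)
    obtain rfl := inv_mul_eq_one.1 h1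
    obtain rfl := mul_left_cancel h'
    rfl
  have hle := Nat.card_le_card_of_injective m hm
  rw [Nat.card_prod, hV] at hle
  have hA4 : Nat.card A ≤ 4 := by
    by_contra hlt
    have : 5 * 4 ≤ Nat.card A * Nat.card B := Nat.mul_le_mul (by omega) h4'
    omega
  exact ⟨le_antisymm hA4 h4, hc4 hA4⟩

/-- An element of odd prime order centralizing a normal 2-subgroup modulo its Frattini subgroup. -/
theorem eq_two_of_trivial (Q : Subgroup G) [Q.Normal] (hQ : IsPGroup 2 Q)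
    (hC : Subgroup.centralizer (Q : Set G) ≤ Q) {r : ℕ} (hr : r.Prime) {y : G} (hy : orderOf y = r)
    (htriv : ∀ x ∈ Q, y * x * y⁻¹ * x⁻¹ ∈ (frattini ↥Q).map Q.subtype) : r = 2 := by
  by_contra hr2
  haveI := Fact.mk Nat.prime_two
  set Φ := (frattini ↥Q).map Q.subtype with hΦdef
  haveI : Φ.Normal := by rw [hΦdef]; infer_instance
  have hcop : (Nat.card (Subgroup.zpowers y)).Coprime (Nat.card (frattini ↥Q)) := by
    rw [Nat.card_zpowers, hy]
    obtain ⟨m, hm⟩ := IsPGroup.iff_card.1 (hQ.to_subgroup (frattini ↥Q))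
    rw [hm]
    exact ((Nat.coprime_primes hr Nat.prime_two).2 hr2).pow_right m
  let π := QuotientGroup.mk' Φ
  have hyc : π y ∈ Subgroup.centralizer (Q.map π : Set (G ⧸ Φ)) := by
    rw [Subgroup.mem_centralizer_iff]
    rintro _ ⟨x, hx, rfl⟩
    have h := (QuotientGroup.eq_one_iff _).2 (htriv x hx)
    rw [QuotientGroup.mk_mul, QuotientGroup.mk_mul, QuotientGroup.mk_mul, QuotientGroup.mk_inv,
      QuotientGroup.mk_inv] at h
    exact (mul_inv_eq_iff_eq_mul.1 (mul_inv_eq_one.1 h)).symm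
  have hle : Subgroup.zpowers y ≤ Subgroup.centralizer (Q : Set G) := by
    refine Coprime.le_centralizer_of_frattini ?_ hcop ?_
    · rw [Subgroup.normalizer_eq_top]; exact le_top
    · rintro a ha k hk
      have hac : π a ∈ Subgroup.centralizer (Q.map π : Set (G ⧸ Φ)) :=
        ((Subgroup.zpowers_le (H := (Subgroup.centralizer (Q.map π : Set (G ⧸ Φ))).comap π)).2 hyc) ha
      have h := Subgroup.mem_centralizer_iff.1 hac (π k) ⟨k, hk, rfl⟩
      show a * k * a⁻¹ * k⁻¹ ∈ Φ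
      rw [← QuotientGroup.eq_one_iff]
      show π (a * k * a⁻¹ * k⁻¹) = 1
      rw [map_mul, map_mul, map_mul, map_inv, map_inv, ← h]
      group
  have hyQ : y ∈ Q := hC (hle (Subgroup.mem_zpowers _))
  obtain ⟨m, hm⟩ := IsPGroup.iff_orderOf.1 hQ ⟨y, hyQ⟩
  rw [Subgroup.orderOf_mk, hy] at hm
  exact hr2 ((Nat.prime_dvd_prime_iff_eq hr Nat.prime_two).1 (hr.dvd_of_dvd_pow hm.dvd))

end Cfsg.Agent.Lib.Inv59.RankFour
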