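import Mathlib
import Cfsg.Agent.Lib.Inv59.RankFour.Layers
import Cfsg.Agent.Lib.Inv59.RankFour.FiveProduct

/-!
# `O₂` when the quotient is `A₅`, sectional 2-rank at most 4
-/

set_option autoImplicit false
set_option linter.unusedSectionVars false
set_option linter.style.haveILetI false

namespace Cfsg.Agent.Lib.Inv59.RankFour

universe u

local notation "A5" => alternatingGroup (Fin 5)

theorem five_inverted : ∀ g : A5, g ^ 5 = 1 → g ≠ 1 → ∃ s : A5, s * s = 1 ∧ s ≠ 1 ∧ s * g * s⁻¹ = g⁻¹ := by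
  decide +kernel

theorem card_A5 : Nat.card A5 = 60 := by
  rw [nat_card_alternatingGroup, Nat.card_fin]; decide

/-- Order of an image in a quotient. -/
theorem card_map_mk {G : Type u} [Group G] [Finite G] (N A : Subgroup G) [N.Normal] (hNA : N ≤ A) :
    Nat.card ↥(A.map (QuotientGroup.mk' N)) * Nat.card N = Nat.card A := by
  let f := (QuotientGroup.mk' N).comp A.subtype
  have hk : f.ker = N.subgroupOf A := by
    ext x
    rw [MonoidHom.mem_ker, Subgroup.mem_subgroupOf]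
    exact QuotientGroup.eq_one_iff _
  have h := Subgroup.card_mul_index f.ker
  rw [Subgroup.index_ker, hk, Nat.card_congr (Subgroup.subgroupOfEquivOfLe hNA).toEquiv,
    MonoidHom.range_comp, Subgroup.range_subtype] at h
  rw [mul_comm]
  exact h

/-- `Y` acts without fixed points, elements of order five, on `Q/W`. -/
def FiveFree {G : Type u} [Group G] (Q W : Subgroup G) : Prop :=
  ∀ y : G, orderOf y = 5 → ∀ x ∈ Q, y * x * y⁻¹ * x⁻¹ ∈ W → x ∈ W

variable {G : Type u} [Group G] [Finite G] {Q : Subgroup G} [Q.Normal] {φ : G →* A5}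

/-- A normal subgroup containing `Q` is `Q` or everything. -/
theorem normal_above (hφ : Function.Surjective φ) (hker : φ.ker = Q) (K : Subgroup G) [K.Normal]
    (hQK : Q ≤ K) : K = Q ∨ K = ⊤ := by
  haveI : IsSimpleGroup A5 := alternatingGroup.isSimpleGroup (by simp)
  have hK : (K.map φ).comap φ = K := by
    rw [Subgroup.comap_map_eq, hker, sup_eq_left.2 hQK]
  rcases (Subgroup.Normal.map (inferInstance : K.Normal) φ hφ).eq_bot_or_eq_top with h | h
  · exact Or.inl (by rw [← hK, h, MonoidHom.comap_bot, hker])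
  · exact Or.inr (by rw [← hK, h, Subgroup.comap_top])

theorem exists_order (hφ : Function.Surjective φ) {r : ℕ} (hr : r.Prime) (hd : r ∣ 60) :
    ∃ y : G, orderOf y = r := by
  haveI := Fact.mk hr
  refine exists_prime_orderOf_dvd_card' r (hd.trans ?_)
  rw [← card_A5]
  exact Subgroup.card_dvd_of_surjective φ hφ

theorem not_mem_Q (hQ : IsPGroup 2 Q) {r : ℕ} (hr : r.Prime) (hr2 : r ≠ 2) {y : G} (hy : orderOf y = r) :
    y ∉ Q := by
  intro hyQ
  haveI := Fact.mk Nat.prime_two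
  obtain ⟨m, hm⟩ := IsPGroup.iff_orderOf.1 hQ ⟨y, hyQ⟩
  rw [Subgroup.orderOf_mk, hy] at hm
  exact hr2 ((Nat.prime_dvd_prime_iff_eq hr Nat.prime_two).1 (hr.dvd_of_dvd_pow hm.dvd))

/-- A minimal normal elementary subgroup central in `Q`. -/
theorem layer_order (hφ : Function.Surjective φ) (hker : φ.ker = Q) (hQ : IsPGroup 2 Q)
    (hr : Cfsg.SectionalPRankLE 2 4 G) (W : Subgroup G) [W.Normal] (hne : W ≠ ⊥)
    (h2 : ∀ w ∈ W, w * w = 1) (hcen : ∀ w ∈ W, ∀ x ∈ Q, x * w = w * x)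
    (hmin : ∀ M : Subgroup G, M.Normal → M ≤ W → M = ⊥ ∨ M = W) :
    Nat.card W = 2 ∨
      (Nat.card W = 16 ∧ ∀ y : G, orderOf y = 5 → ∀ w ∈ W, y * w * y⁻¹ = w → w = 1) := by
  have h16 : Nat.card W ≤ 16 := by
    have h := section_le hr W ⊥ bot_le
      (fun h _ k hk => by rw [Subgroup.mem_bot.1 hk]; simp) fun w hw => Subgroup.mem_bot.2 (h2 w hw)
    rwa [Subgroup.card_bot, mul_one] at h
  rcases normal_above hφ hker (Subgroup.centralizer (W : Set G))
    (fun x hx => Subgroup.mem_centralizer_iff.2 fun w hw => (hcen w hw x hx).symm) with hK | hK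
  · right
    have hWn : ∀ (y : G), ∀ w ∈ W, y * w * y⁻¹ ∈ W := fun y w hw => (inferInstance : W.Normal).conj_mem w hw y
    haveI : Fact (Nat.Prime 5) := ⟨by norm_num⟩
    have key : ∀ y : G, orderOf y = 5 →
        Nat.card W = 16 ∧ ∀ w ∈ W, y * w * y⁻¹ = w → w = 1 := by
      intro y hy
      obtain ⟨a, b, ha, hba, hWa, hCb, hmod, hall⟩ := moved W h2 h16 hy (hWn y)
      have hne' : b ≠ a := fun e => not_mem_Q hQ (by norm_num) (by norm_num) hy (hK ▸
        Subgroup.mem_centralizer_iff.2 fun w hw => (mul_inv_eq_iff_eq_mul.1 (hall e w hw)).symm)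
      have key : ∀ a b : Fin 5, (b : ℕ) ≤ a → b ≠ a → 2 ^ (a : ℕ) % 5 = 2 ^ (b : ℕ) % 5 →
          (a : ℕ) = 4 ∧ (b : ℕ) = 0 := by decide
      obtain ⟨h4, h0⟩ := key ⟨a, by omega⟩ ⟨b, by omega⟩ hba (fun e => hne' (congrArg Fin.val e)) hmod
      refine ⟨by rw [hWa, show a = 4 from h4]; norm_num, fun w hw hfix => ?_⟩
      have hC1 : W ⊓ Subgroup.centralizer {y} = ⊥ :=
        Subgroup.card_eq_one.1 (by rw [hCb, show b = 0 from h0, pow_zero])
      have hm : w ∈ W ⊓ Subgroup.centralizer {y} :=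
        ⟨hw, Subgroup.mem_centralizer_singleton_iff.2 (mul_inv_eq_iff_eq_mul.1 hfix).symm⟩
      rw [hC1] at hm
      exact Subgroup.mem_bot.1 hm
    obtain ⟨y, hy⟩ := exists_order hφ (by norm_num : Nat.Prime 5) (by norm_num)
    exact ⟨(key y hy).1, fun y hy => (key y hy).2⟩
  · left
    obtain ⟨w, hw, hw1⟩ := (Subgroup.bot_or_exists_ne_one W).resolve_left hne
    have hn : (Subgroup.zpowers w).Normal := ⟨fun v hv g => by
      have hc : Commute g w :=
        ((Subgroup.mem_centralizer_iff.1 (hK ▸ Subgroup.mem_top g)) w hw).symm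
      obtain ⟨i, rfl⟩ := hv
      show g * w ^ i * g⁻¹ ∈ _
      rw [(hc.zpow_right i).eq, mul_inv_cancel_right]
      exact Subgroup.zpow_mem _ (Subgroup.mem_zpowers w) i⟩
    rcases hmin _ hn (Subgroup.zpowers_le.2 hw) with h | h
    · exact absurd (Subgroup.mem_bot.1 (h ▸ Subgroup.mem_zpowers w)) hw1
    · rw [← h, Nat.card_zpowers]
      haveI := Fact.mk Nat.prime_two
      exact orderOf_eq_prime (by rw [pow_two]; exact h2 w hw) hw1

/-- There is no faithful layer of order `16`. -/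
theorem no_sixteen (hφ : Function.Surjective φ) (hker : φ.ker = Q) (hr : Cfsg.SectionalPRankLE 2 4 G)
    (W : Subgroup G) [W.Normal] (hWQ : W ≤ Q) (h2 : ∀ w ∈ W, w * w = 1)
    (hcen : ∀ w ∈ W, ∀ x ∈ Q, x * w = w * x) (hsq : ∀ x ∈ Q, x * x ∈ W)
    (hcard : Nat.card Q = 16 * Nat.card W) (hW16 : Nat.card W = 16)
    (hfW : ∀ y : G, orderOf y = 5 → ∀ w ∈ W, y * w * y⁻¹ = w → w = 1) (hfV : FiveFree Q W) : False := by
  classical
  obtain ⟨y, hy⟩ := exists_order hφ (by norm_num : Nat.Prime 5) (by norm_num)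
  have hy1 : φ y ≠ 1 := by
    intro h
    have hm : y ∈ Q := hker ▸ MonoidHom.mem_ker.2 h
    obtain ⟨k, hk⟩ : ∃ k, y ^ 2 = k := ⟨_, rfl⟩
    have hyW : y ^ 2 ∈ W := by rw [pow_two]; exact hsq y hm
    have h4 : y ^ 4 = 1 := by
      rw [show 4 = 2 + 2 from rfl, pow_add]; exact h2 _ hyW
    have := orderOf_dvd_of_pow_eq_one h4
    rw [hy] at this
    norm_num at this
  obtain ⟨s, hs2, hs1, hsg⟩ := five_inverted (φ y) (by rw [← map_pow, (by have h := pow_orderOf_eq_one y; rwa [hy] at h : y ^ 5 = 1), map_one]) hy1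
  obtain ⟨t, ht⟩ := hφ s
  have hQmem : ∀ g, φ g = 1 → g ∈ Q := fun g hg => hker ▸ MonoidHom.mem_ker.2 hg
  have htt : t * t ∈ Q := hQmem _ (by rw [map_mul, ht, hs2])
  have hty : t * y * (t * y) ∈ Q := hQmem _ (by
    rw [map_mul, map_mul, ht, ← mul_assoc]
    conv_lhs => rw [show s * φ y * s = s * φ y * s⁻¹ by rw [inv_eq_of_mul_eq_one_right hs2], hsg]
    rw [inv_mul_cancel])
  -- the actions on `W` and on `Q/W`
  have hQW : ∀ g ∈ Q, ∀ w ∈ W, g * w * g⁻¹ = w := fun g hg w hw => by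
    rw [hcen w hw g hg, mul_inv_cancel_right]
  have hinvW : ∀ g, g * g ∈ Q → ∀ w ∈ W, g * (g * w * g⁻¹) * g⁻¹ = w := fun g hg w hw => by
    rw [show g * (g * w * g⁻¹) * g⁻¹ = g * g * w * (g * g)⁻¹ by group]
    exact hQW _ hg w hw
  have hfreeW : ∀ w ∈ W, t * w * t⁻¹ = w → t * y * w * (t * y)⁻¹ = w → w = 1 := by
    intro w hw h1 h2'
    refine hfW y hy w hw ?_
    calc y * w * y⁻¹ = t⁻¹ * (t * y * w * (t * y)⁻¹) * t := by group
      _ = t⁻¹ * (t * w * t⁻¹) * t := by rw [h2', h1]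
      _ = w := by group
  obtain ⟨hL4, hLr⟩ := invol_fix W h2 hW16 t (t * y) (hinvW t htt) (hinvW _ hty) hfreeW
  let π := QuotientGroup.mk' W
  set V := Q.map π with hV
  haveI : V.Normal := Subgroup.Normal.map inferInstance π (QuotientGroup.mk'_surjective W)
  have hV16 : Nat.card V = 16 := by
    have h := card_map_mk W Q hWQ
    rw [hcard] at h
    exact Nat.eq_of_mul_eq_mul_right Nat.card_pos h
  have hV2 : ∀ v ∈ V, v * v = 1 := by
    rintro _ ⟨x, hx, rfl⟩
    rw [← map_mul]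
    exact (QuotientGroup.eq_one_iff _).2 (hsq x hx)
  have hVc : ∀ g ∈ V, ∀ v ∈ V, g * v * g⁻¹ = v := fun g hg v hv => by
    rw [comm_of_sq hV2 hg hv, mul_inv_cancel_right]
  have hinvV : ∀ g, g * g ∈ Q → ∀ v ∈ V, π g * (π g * v * (π g)⁻¹) * (π g)⁻¹ = v := fun g hg v hv => by
    rw [show π g * (π g * v * (π g)⁻¹) * (π g)⁻¹ = π g * π g * v * (π g * π g)⁻¹ by group]
    exact hVc _ (by rw [← map_mul]; exact ⟨_, hg, rfl⟩) v hv
  have hfreeV : ∀ v ∈ V, π t * v * (π t)⁻¹ = v → π (t * y) * v * (π (t * y))⁻¹ = v → v = 1 := by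
    rintro _ ⟨x, hx, rfl⟩ h1 h2'
    refine (QuotientGroup.eq_one_iff x).2 (hfV y hy x hx ?_)
    rw [← QuotientGroup.eq_one_iff]
    show π (y * x * y⁻¹ * x⁻¹) = 1
    rw [map_mul, map_mul, map_mul, map_inv, map_inv, mul_inv_eq_one]
    rw [map_mul] at h2'
    calc π y * π x * (π y)⁻¹ = (π t)⁻¹ * (π t * π y * π x * (π t * π y)⁻¹) * π t := by group
      _ = (π t)⁻¹ * (π t * π x * (π t)⁻¹) * π t := by rw [h2', h1]
      _ = π x := by group
  obtain ⟨hC4, hCr⟩ := invol_fix V hV2 hV16 (π t) (π (t * y)) (hinvV t htt) (hinvV _ hty) hfreeV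
  -- a lift of the involution with square in `W`
  have htV : π t * π t ∈ V := by rw [← map_mul]; exact ⟨_, htt, rfl⟩
  obtain ⟨X, hX, hXd⟩ := hCr (π t * π t)
    ⟨htV, Subgroup.mem_centralizer_singleton_iff.2 (mul_assoc _ _ _)⟩
  obtain ⟨x₀, hx₀, hx₀X⟩ := hX
  set t' := t * x₀ with ht'
  have hφt' : φ t' = s := by
    rw [ht', map_mul, ht, MonoidHom.mem_ker.1 (hker.symm ▸ hx₀ : x₀ ∈ φ.ker), mul_one]
  have ht'2 : t' * t' ∈ W := by
    rw [← QuotientGroup.eq_one_iff]
    show π (t * x₀ * (t * x₀)) = 1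
    rw [map_mul, map_mul, hx₀X]
    have hXV : X ∈ V := ⟨x₀, hx₀, hx₀X⟩
    have hXinv : X⁻¹ = X := inv_eq_of_mul_eq_one_right (hV2 X hXV)
    have hTX : π t * X * (π t)⁻¹ = (π t)⁻¹ * X * π t := by
      have h := hinvV t htt X hXV
      calc π t * X * (π t)⁻¹ = (π t)⁻¹ * (π t * (π t * X * (π t)⁻¹) * (π t)⁻¹) * π t := by group
        _ = (π t)⁻¹ * X * π t := by rw [h]
    calc π t * X * (π t * X) = π t * π t * ((π t)⁻¹ * X * π t) * X⁻¹⁻¹ := by group
      _ = π t * π t * (π t * X * (π t)⁻¹ * X⁻¹) := by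
        rw [← hTX, inv_inv, hXinv]; exact mul_assoc _ _ _
      _ = π t * π t * (π t * π t) := by rw [hXd]
      _ = 1 := hV2 _ htV
  have hcW : ∀ w ∈ W, t' * w * t'⁻¹ = t * w * t⁻¹ := fun w hw => by
    rw [ht', show t * x₀ * w * (t * x₀)⁻¹ = t * (x₀ * w * x₀⁻¹) * t⁻¹ by group, hQW x₀ hx₀ w hw]
  set C := V ⊓ Subgroup.centralizer {π t} with hC
  set U := C.comap π with hU
  have hUQ : U ≤ Q := fun x hx => by
    obtain ⟨z, hz, he⟩ := hx.1
    have : z⁻¹ * x ∈ W := by
      rw [← QuotientGroup.eq_one_iff]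
      show π (z⁻¹ * x) = 1
      rw [map_mul, map_inv, he, inv_mul_cancel]
    rw [show x = z * (z⁻¹ * x) by group]
    exact Q.mul_mem hz (hWQ this)
  have hWU : W ≤ U := fun w hw => by
    rw [hU, Subgroup.mem_comap, show π w = 1 from (QuotientGroup.eq_one_iff w).2 hw]
    exact C.one_mem
  have hU64 : Nat.card U = 64 := by
    have h := card_map_mk W U hWU
    rw [show U.map π = C from Subgroup.map_comap_eq_self_of_surjective (QuotientGroup.mk'_surjective W) C,
      hC4, hW16] at h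
    exact h.symm
  set L := W ⊓ Subgroup.centralizer {t} with hL
  have hLiff : ∀ w ∈ W, (w ∈ L ↔ t' * w * t'⁻¹ = w) := fun w hw => by
    rw [hcW w hw, hL, Subgroup.mem_inf, Subgroup.mem_centralizer_singleton_iff, mul_inv_eq_iff_eq_mul]
    exact ⟨fun h => h.2.symm, fun h => ⟨hw, h.symm⟩⟩
  have hu : t' * t' ∈ L := (hLiff _ ht'2).2 (by group)
  have hk : ∀ x ∈ U, t' * x * t'⁻¹ * x⁻¹ ∈ L ∧ x * x ∈ L := by
    intro x hx
    have hxV : π x ∈ V := hx.1
    have hkW : t' * x * t'⁻¹ * x⁻¹ ∈ W := by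
      rw [← QuotientGroup.eq_one_iff]
      show π (t' * x * t'⁻¹ * x⁻¹) = 1
      rw [map_mul, map_mul, map_mul, map_inv, map_inv, ht', map_mul, mul_inv_eq_one]
      have h1 : π t * π x * (π t)⁻¹ = π x :=
        mul_inv_eq_iff_eq_mul.2 (Subgroup.mem_centralizer_singleton_iff.1 hx.2).symm
      rw [show π t * π x₀ * π x * (π t * π x₀)⁻¹ = π t * (π x₀ * π x * (π x₀)⁻¹) * (π t)⁻¹ by group,
        hVc _ ⟨x₀, hx₀, rfl⟩ _ hxV, h1]
    set k := t' * x * t'⁻¹ * x⁻¹ with hkdef
    have hk2 : k * k = 1 := h2 k hkW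
    have hkx : t' * x * t'⁻¹ = k * x := by rw [hkdef]; group
    have hkL : k ∈ L := by
      rw [hLiff k hkW]
      have h1 : t' * k * t'⁻¹ * (k * x) = x := by
        calc t' * k * t'⁻¹ * (k * x) = t' * k * t'⁻¹ * (t' * x * t'⁻¹) := by rw [hkx]
          _ = t' * (k * x) * t'⁻¹ := by group
          _ = t' * (t' * x * t'⁻¹) * t'⁻¹ := by rw [hkx]
          _ = t' * t' * x * (t' * t')⁻¹ := by group
          _ = x := by rw [← hcen _ ht'2 x (hUQ hx), mul_inv_cancel_right]
      calc t' * k * t'⁻¹ = t' * k * t'⁻¹ * (k * x) * x⁻¹ * k⁻¹ := by group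
        _ = k⁻¹ := by rw [h1, mul_inv_cancel, one_mul]
        _ = k := inv_eq_of_mul_eq_one_right hk2
    refine ⟨hkL, (hLiff _ (hsq x (hUQ hx))).2 ?_⟩
    calc t' * (x * x) * t'⁻¹ = (t' * x * t'⁻¹) * (t' * x * t'⁻¹) := by group
      _ = k * (x * k) * x := by rw [hkx]; group
      _ = k * (k * x) * x := by rw [hcen k hkW x (hUQ hx)]
      _ = x * x := by rw [← mul_assoc, hk2, one_mul]
  have hLW : L ≤ W := inf_le_left
  have hLU : L ≤ U := hLW.trans hWU
  have hconjU : ∀ x ∈ U, t' * x * t'⁻¹ ∈ U := fun x hx => by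
    rw [show t' * x * t'⁻¹ = t' * x * t'⁻¹ * x⁻¹ * x by group]
    exact U.mul_mem (hLU (hk x hx).1) hx
  let H : Subgroup G :=
    { carrier := {h | h ∈ U ∨ h * t'⁻¹ ∈ U}
      one_mem' := Or.inl U.one_mem
      mul_mem' := by
        rintro a b (ha | ha) (hb | hb)
        · exact Or.inl (U.mul_mem ha hb)
        · exact Or.inr (by rw [mul_assoc]; exact U.mul_mem ha hb)
        · refine Or.inr ?_
          rw [show a * b * t'⁻¹ = a * t'⁻¹ * (t' * b * t'⁻¹) by group]
          exact U.mul_mem ha (hconjU b hb)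
        · refine Or.inl ?_
          rw [show a * b = a * t'⁻¹ * (t' * (b * t'⁻¹) * t'⁻¹) * (t' * t') by group]
          exact U.mul_mem (U.mul_mem ha (hconjU _ hb)) (hLU hu)
      inv_mem' := by
        rintro a (ha | ha)
        · exact Or.inl (U.inv_mem ha)
        · refine Or.inr ?_
          show a⁻¹ * t'⁻¹ ∈ U
          rw [show a⁻¹ * t'⁻¹ = (t' * t')⁻¹ * (t' * (a * t'⁻¹)⁻¹ * t'⁻¹) by group]
          exact U.mul_mem (U.inv_mem (hLU hu)) (hconjU _ (U.inv_mem ha)) }
  have hHsq : ∀ h ∈ H, h * h ∈ L := by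
    rintro h (hh | hh)
    · exact (hk h hh).2
    · set a := h * t'⁻¹ with hadef
      obtain ⟨hka, ha2⟩ := hk a hh
      set k := t' * a * t'⁻¹ * a⁻¹ with hkdef
      have : h * h = k * (a * a) * (t' * t') := by
        calc h * h = a * (t' * a * t'⁻¹) * (t' * t') := by rw [hadef]; group
          _ = a * k * a * (t' * t') := by rw [hkdef]; group
          _ = k * a * a * (t' * t') := by rw [hcen k (hLW hka) a (hUQ hh)]
          _ = k * (a * a) * (t' * t') := by group
      rw [this]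
      exact L.mul_mem (L.mul_mem hka ha2) hu
  have hHn : ∀ h ∈ H, ∀ k ∈ L, h * k * h⁻¹ ∈ L := by
    rintro h (hh | hh) k hk'
    · rw [hQW h (hUQ hh) k (hLW hk')]; exact hk'
    · rw [show h * k * h⁻¹ = h * t'⁻¹ * (t' * k * t'⁻¹) * (h * t'⁻¹)⁻¹ by group,
        (hLiff k (hLW hk')).1 hk', hQW _ (hUQ hh) k (hLW hk')]
      exact hk'
  have hsec := section_le hr H L (hLU.trans fun x hx => Or.inl hx) hHn hHsq
  rw [hL4] at hsec
  have ht'U : t' ∉ U := fun h => hs1 (hφt' ▸ MonoidHom.mem_ker.1 (hker.symm ▸ hUQ h : t' ∈ φ.ker))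
  let m : ↥U × Bool → ↥H := fun p => if p.2 then ⟨p.1 * t', Or.inr (by
    rw [mul_inv_cancel_right]; exact p.1.2)⟩ else ⟨p.1, Or.inl p.1.2⟩
  have hm : Function.Injective m := by
    rintro ⟨⟨a, ha⟩, i⟩ ⟨⟨b, hb⟩, j⟩ h
    have h' := congrArg Subtype.val h
    cases i <;> cases j <;> simp only [m, Bool.false_eq_true, if_true, if_false] at h'
    · subst h'; rfl
    · exact absurd (by rw [show t' = b⁻¹ * a by rw [h']; group]; exact U.mul_mem (U.inv_mem hb) ha) ht'U
    · exact absurd (by rw [show t' = a⁻¹ * b by rw [← h']; group]; exact U.mul_mem (U.inv_mem ha) hb) ht'U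
    · obtain rfl := mul_right_cancel h'; rfl
  have h128 := Nat.card_le_card_of_injective m hm
  rw [Nat.card_prod, hU64, Nat.card_eq_two_iff.2 ⟨false, true, by simp, by ext b; cases b <;> simp⟩] at h128
  omega

/-- Invariant subgroups between `W` and `Q`. -/
theorem invariant_between (hφ : Function.Surjective φ) (W : Subgroup G) [W.Normal] (hWQ : W ≤ Q)
    (hsq : ∀ x ∈ Q, x * x ∈ W) (hcard : Nat.card Q = 16 * Nat.card W) (hfree : FiveFree Q W)
    (M : Subgroup G) [M.Normal] (hWM : W ≤ M) (hMQ : M ≤ Q) : M = W ∨ M = Q := by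
  haveI : Fact (Nat.Prime 5) := ⟨by norm_num⟩
  obtain ⟨y, hy⟩ := exists_order hφ (by norm_num : Nat.Prime 5) (by norm_num)
  let π := QuotientGroup.mk' W
  set Mb := M.map π with hMb
  haveI : Mb.Normal := Subgroup.Normal.map inferInstance π (QuotientGroup.mk'_surjective W)
  have hM2 : ∀ v ∈ Mb, v * v = 1 := by
    rintro _ ⟨x, hx, rfl⟩
    rw [← map_mul]
    exact (QuotientGroup.eq_one_iff _).2 (hsq x (hMQ hx))
  have hcm := card_map_mk W M hWM
  have h16 : Nat.card Mb ≤ 16 := by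
    have := Subgroup.card_le_of_le hMQ
    rw [hcard, ← hcm] at this
    exact Nat.le_of_mul_le_mul_right this Nat.card_pos
  have hπy : orderOf (π y) = 5 := by
    have hdvd : orderOf (π y) ∣ 5 := hy ▸ orderOf_map_dvd π y
    rcases (Nat.dvd_prime (by norm_num)).1 hdvd with h | h
    · exfalso
      have hyW : y ∈ W := (QuotientGroup.eq_one_iff y).1 (orderOf_eq_one_iff.1 h)
      have h16' : Nat.card W < Nat.card Q := by rw [hcard]; have := (Nat.card_pos (α := W)); omega
      obtain ⟨x, hx, hxW⟩ := SetLike.not_le_iff_exists.1 fun h => (Subgroup.card_le_of_le h).not_gt h16'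
      refine hxW (hfree y hy x hx ?_)
      rw [show y * x * y⁻¹ * x⁻¹ = y * (x * y⁻¹ * x⁻¹) by group]
      exact W.mul_mem hyW ((inferInstance : W.Normal).conj_mem _ (W.inv_mem hyW) x)
    · exact h
  obtain ⟨a, b, ha, hba, hMa, hCb, hmod, -⟩ := moved Mb hM2 h16 hπy
    (fun v hv => (inferInstance : Mb.Normal).conj_mem v hv _)
  have hb0 : Mb ⊓ Subgroup.centralizer {π y} = ⊥ := by
    rw [eq_bot_iff]
    rintro _ ⟨⟨x, hx, rfl⟩, hc⟩
    refine Subgroup.mem_bot.2 ((QuotientGroup.eq_one_iff x).2 (hfree y hy x (hMQ hx) ?_))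
    rw [← QuotientGroup.eq_one_iff]
    show π (y * x * y⁻¹ * x⁻¹) = 1
    rw [map_mul, map_mul, map_mul, map_inv, map_inv, mul_inv_eq_one,
      mul_inv_eq_iff_eq_mul]
    exact (Subgroup.mem_centralizer_singleton_iff.1 hc).symm
  rw [hb0, Subgroup.card_bot] at hCb
  have hb : b = 0 := by
    rcases Nat.eq_zero_or_pos b with h | h
    · exact h
    · have := Nat.one_lt_two_pow_iff.2 h.ne'; omega
  rw [hb] at hmod
  have key : ∀ a : Fin 5, 2 ^ (a : ℕ) % 5 = 2 ^ 0 % 5 → (a : ℕ) = 0 ∨ (a : ℕ) = 4 := by decide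
  rcases key ⟨a, by omega⟩ hmod with h | h
  · left
    refine (Subgroup.eq_of_le_of_card_ge hWM ?_).symm
    rw [← hcm, hMa, show a = 0 from h, pow_zero, one_mul]
  · right
    refine Subgroup.eq_of_le_of_card_ge hMQ ?_
    rw [← hcm, hMa, show a = 4 from h, hcard]
    norm_num

/-- The centre and the involutions when the first layer has order two. -/
theorem trivial_layer (hφ : Function.Surjective φ) (W : Subgroup G) [W.Normal] (hWQ : W ≤ Q)
    (hcen : ∀ w ∈ W, ∀ x ∈ Q, x * w = w * x) (hW2 : Nat.card W = 2) (hsq : ∀ x ∈ Q, x * x ∈ W)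
    (hcard : Nat.card Q = 32) (hfree : FiveFree Q W) (hne : ∃ x ∈ Q, x * x ≠ 1) :
    (∀ x ∈ Q, x ∉ W → ∃ g ∈ Q, g * x ≠ x * g) ∧ (∃ x ∈ Q, x ∉ W ∧ x * x = 1) := by
  classical
  have hcard' : Nat.card Q = 16 * Nat.card W := by rw [hcard, hW2]
  obtain ⟨z, hzW, hz1⟩ : ∃ z ∈ W, z ≠ 1 := (Subgroup.bot_or_exists_ne_one W).resolve_left fun h => by
    rw [h, Subgroup.card_bot] at hW2; omega
  have hWz : ∀ w ∈ W, w = 1 ∨ w = z := by
    intro w hw
    obtain ⟨p, q, -, hu⟩ := Nat.card_eq_two_iff.1 hW2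
    have h1 : (1 : ↥W) ∈ ({p, q} : Set ↥W) := hu ▸ Set.mem_univ _
    have hz : (⟨z, hzW⟩ : ↥W) ∈ ({p, q} : Set ↥W) := hu ▸ Set.mem_univ _
    have hw' : (⟨w, hw⟩ : ↥W) ∈ ({p, q} : Set ↥W) := hu ▸ Set.mem_univ _
    simp only [Set.mem_insert_iff, Set.mem_singleton_iff] at h1 hz hw'
    have hzne : (⟨z, hzW⟩ : ↥W) ≠ 1 := fun e => hz1 (congrArg Subtype.val e)
    rcases h1 with rfl | rfl <;> rcases hz with hz | hz <;> rcases hw' with hw' | hw' <;>
      first
        | exact absurd hz hzne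
        | exact Or.inl (congrArg Subtype.val hw')
        | exact Or.inr (congrArg Subtype.val (hw'.trans hz.symm))
  have hzz : z * z = 1 := by
    rcases hWz _ (W.mul_mem hzW hzW) with h | h
    · exact h
    · exact absurd (mul_eq_left.1 h) hz1
  refine ⟨?_, ?_⟩
  · -- the centre of `Q` is `W`
    have hZn : (Q ⊓ Subgroup.centralizer (Q : Set G)).Normal := inferInstance
    rcases invariant_between hφ W hWQ hsq hcard' hfree (Q ⊓ Subgroup.centralizer (Q : Set G))
      (fun w hw => ⟨hWQ hw, Subgroup.mem_centralizer_iff.2 fun x hx => hcen w hw x hx⟩) inf_le_left with h | h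
    · intro x hx hxW
      by_contra hall
      push Not at hall
      exact hxW (h ▸ ⟨hx, Subgroup.mem_centralizer_iff.2 hall⟩)
    · exfalso
      have hab : ∀ a ∈ Q, ∀ b ∈ Q, a * b = b * a := fun a ha b hb =>
        Subgroup.mem_centralizer_iff.1 ((h.symm ▸ hb : b ∈ Q ⊓ Subgroup.centralizer (Q : Set G))).2 a ha
      let K₀ : Subgroup G :=
        { carrier := {x | x ∈ Q ∧ x * x = 1}
          one_mem' := ⟨Q.one_mem, one_mul 1⟩
          mul_mem' := by
            rintro a b ⟨ha, ha2⟩ ⟨hb, hb2⟩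
            refine ⟨Q.mul_mem ha hb, ?_⟩
            calc a * b * (a * b) = a * (b * a) * b := by group
              _ = a * (a * b) * b := by rw [hab b hb a ha]
              _ = 1 := by rw [← mul_assoc, ha2, one_mul, hb2]
          inv_mem' := by
            rintro a ⟨ha, ha2⟩
            exact ⟨Q.inv_mem ha, by rw [← mul_inv_rev, ha2, inv_one]⟩ }
      haveI : K₀.Normal := ⟨fun a ha g => ⟨(inferInstance : Q.Normal).conj_mem a ha.1 g, by
        rw [show g * a * g⁻¹ * (g * a * g⁻¹) = g * (a * a) * g⁻¹ by group, ha.2]; simp⟩⟩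
      have hWK : W ≤ K₀ := fun w hw => ⟨hWQ hw, by rcases hWz w hw with rfl | rfl <;> simp [hzz]⟩
      rcases invariant_between hφ W hWQ hsq hcard' hfree K₀ hWK (fun x hx => hx.1) with h' | h'
      · let sqh : ↥Q →* ↥W := MonoidHom.mk' (fun x => ⟨x * x, hsq x x.2⟩) (fun a b => Subtype.ext (by
          show (a : G) * b * (a * b) = a * a * (b * b)
          calc (a : G) * b * (a * b) = a * (b * a) * b := by group
            _ = a * (a * b) * b := by rw [hab _ b.2 _ a.2]
            _ = a * a * (b * b) := by group))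
        have hk : Nat.card sqh.ker ≤ 2 := by
          refine (Nat.card_le_card_of_injective (fun x : sqh.ker => (⟨x.1.1, le_of_eq h' (show (x.1 : G) ∈ K₀ from ⟨x.1.2,
            congrArg Subtype.val (MonoidHom.mem_ker.1 x.2)⟩)⟩ : ↥W)) ?_).trans hW2.le
          intro p q e
          have e' := congrArg Subtype.val e
          exact Subtype.ext (Subtype.ext e')
        have h2 := Subgroup.card_mul_index sqh.ker
        rw [Subgroup.index_ker, hcard] at h2
        have hle : Nat.card sqh.range ≤ 2 := hW2 ▸ Subgroup.card_le_card_group _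
        have := Nat.mul_le_mul hk hle
        omega
      · obtain ⟨x, hx, hx2⟩ := hne
        exact hx2 ((h'.symm ▸ hx : x ∈ K₀)).2
  · by_contra hall
    push Not at hall
    have hz' : ∀ x ∈ Q, x ∉ W → x * x = z := fun x hx hxW => (hWz _ (hsq x hx)).resolve_left (hall x hx hxW)
    have hyx : ∀ x ∈ Q, x ∉ W → ∀ y ∈ Q, y ∉ W → x * y ∉ W → y * x = x * y * z := by
      intro x hx hxW y hy hyW hxyW
      have h1 := hz' x hx hxW
      have h2 := hz' y hy hyW
      have h3 := hz' _ (Q.mul_mem hx hy) hxyW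
      calc y * x = x⁻¹ * (x * y * (x * y)) * y⁻¹ := by group
        _ = x⁻¹ * z * y⁻¹ := by rw [h3]
        _ = x⁻¹ * (x * x) * y⁻¹ := by rw [h1]
        _ = x * y⁻¹ := by group
        _ = x * (y * z) := by rw [inv_eq_of_mul_eq_one_right (show y * (y * z) = 1 by
              rw [← mul_assoc, h2, hzz])]
        _ = x * y * z := by group
    have hsmall : ∀ S : Finset G, S.card < 32 → ∃ x ∈ Q, x ∉ S := by
      intro S hS
      by_contra hcon
      push Not at hcon
      have := Set.ncard_le_ncard (fun x hx => hcon x hx : (Q : Set G) ⊆ ↑S) (Finset.finite_toSet S)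
      rw [Set.ncard_coe_finset, ← Nat.card_coe_set_eq] at this
      rw [show Nat.card ↥(Q : Set G) = 32 from hcard] at this
      omega
    obtain ⟨x, hx, hxS⟩ := hsmall {1, z} (by
      refine lt_of_le_of_lt Finset.card_le_two ?_; norm_num)
    simp only [Finset.mem_insert, Finset.mem_singleton, not_or] at hxS
    obtain ⟨y, hy, hyS⟩ := hsmall {1, z, x⁻¹, x⁻¹ * z} (by
      refine lt_of_le_of_lt Finset.card_le_four ?_; norm_num)
    simp only [Finset.mem_insert, Finset.mem_singleton, not_or] at hyS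
    obtain ⟨w, hw, hwS⟩ := hsmall {1, z, x⁻¹, x⁻¹ * z, y⁻¹, y⁻¹ * z, (x * y)⁻¹, (x * y)⁻¹ * z} (by
      refine lt_of_le_of_lt (b := 8) ?_ (by norm_num)
      exact (Finset.card_insert_le _ _).trans (Nat.succ_le_succ ((Finset.card_insert_le _ _).trans
        (Nat.succ_le_succ ((Finset.card_insert_le _ _).trans (Nat.succ_le_succ
          ((Finset.card_insert_le _ _).trans (Nat.succ_le_succ Finset.card_le_four))))))))
    simp only [Finset.mem_insert, Finset.mem_singleton, not_or] at hwS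
    have hnot : ∀ g, g ≠ 1 → g ≠ z → g ∉ W := fun g h1 h2 h => (hWz g h).elim h1 h2
    have hmul : ∀ a b, b ≠ a⁻¹ → b ≠ a⁻¹ * z → a * b ∉ W := fun a b h1 h2 =>
      hnot _ (fun e => h1 (eq_inv_of_mul_eq_one_right e)) (fun e => h2 (by rw [← e]; group))
    obtain ⟨hy1, hy2, hy3, hy4⟩ := hyS
    obtain ⟨hw1, hw2, hw3, hw4, hw5, hw6, hw7, hw8⟩ := hwS
    have hxW := hnot x hxS.1 hxS.2
    have hyW := hnot y hy1 hy2
    have hwW := hnot w hw1 hw2
    have hxyW := hmul x y hy3 hy4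
    have hxwW := hmul x w hw3 hw4
    have hywW := hmul y w hw5 hw6
    have hxywW : x * (y * w) ∉ W := by rw [← mul_assoc]; exact hmul (x * y) w hw7 hw8
    have e1 := hyx x hx hxW y hy hyW hxyW
    have e2 := hyx x hx hxW w hw hwW hxwW
    have e3 := hyx x hx hxW (y * w) (Q.mul_mem hy hw) hywW hxywW
    have hzw : z * w = w * z := (hcen z hzW w hw).symm
    have e4 : y * w * x = x * (y * w) := by
      calc y * w * x = y * (w * x) := mul_assoc y w x
        _ = y * x * (w * z) := by rw [e2]; group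
        _ = x * y * (z * w) * z := by rw [e1]; group
        _ = x * y * (w * z) * z := by rw [hzw]
        _ = x * (y * w) * (z * z) := by group
        _ = x * (y * w) := by rw [hzz, mul_one]
    exact hz1 (mul_eq_left.1 (e3.symm.trans e4))

end Cfsg.Agent.Lib.Inv59.RankFour
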