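import Mathlib
import Cfsg.Agent.Lib.SubgroupsA8
import Cfsg.Agent.Lib.Spectrum.SL25Recognition
import Cfsg.Agent.Lib.Cores.Basic

/-!
# Non-solvable subgroups of `A₈` with a non-trivial normal `p`-subgroup for an odd prime `p`
-/

set_option autoImplicit false
set_option linter.unusedSectionVars false
set_option linter.style.haveILetI false

namespace Cfsg.Agent.Lib.Inv59.RankFour

open Equiv Equiv.Perm

universe u

local notation "A8" => alternatingGroup (Fin 8)

theorem card_A8 : Nat.card A8 = 20160 := by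
  rw [nat_card_alternatingGroup, Nat.card_fin]
  decide

theorem no_order_twenty_one (σ : Perm (Fin 8)) : orderOf σ ≠ 21 := by
  intro h
  have hc : ∀ c ∈ σ.cycleType, c = 3 ∨ c = 7 := by
    intro c hc
    have h1 : c ∣ 21 := h ▸ Equiv.Perm.dvd_of_mem_cycleType hc
    have h2 : c ≤ 8 := by
      calc c ≤ σ.cycleType.sum := Multiset.le_sum_of_mem hc
        _ = σ.support.card := Equiv.Perm.sum_cycleType σ
        _ ≤ 8 := σ.support.card_le_univ.trans (by simp)
    have h3 := Equiv.Perm.two_le_of_mem_cycleType hc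
    interval_cases c <;> omega
  have hl : σ.cycleType.lcm = 21 := by rw [Equiv.Perm.lcm_cycleType, h]
  have h3 : 3 ∈ σ.cycleType := by
    by_contra hcon
    have : σ.cycleType.lcm ∣ 7 := Multiset.lcm_dvd.2 fun c hc' =>
      (hc c hc').elim (fun e => absurd (e ▸ hc') hcon) (fun e => e ▸ dvd_rfl)
    rw [hl] at this
    norm_num at this
  have h7 : 7 ∈ σ.cycleType := by
    by_contra hcon
    have : σ.cycleType.lcm ∣ 3 := Multiset.lcm_dvd.2 fun c hc' =>
      (hc c hc').elim (fun e => e ▸ dvd_rfl) (fun e => absurd (e ▸ hc') hcon)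
    rw [hl] at this
    norm_num at this
  have h7' : 7 ∈ σ.cycleType.erase 3 := (Multiset.mem_erase_of_ne (by norm_num)).2 h7
  have h1 := Multiset.le_sum_of_mem h7'
  have h2 : σ.cycleType.sum = 3 + (σ.cycleType.erase 3).sum := by
    rw [← Multiset.sum_cons, Multiset.cons_erase h3]
  have h4 : σ.cycleType.sum ≤ 8 := by
    rw [Equiv.Perm.sum_cycleType]
    exact σ.support.card_le_univ.trans (by simp)
  omega

/-- An element of order five or seven normalizing a 3-subgroup of order at most 9 centralizes it. -/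
theorem commute_of_normalize {H : Type u} [Group H] [Finite H] (P : Subgroup H) {k : ℕ}
    (hP : Nat.card P = 3 ^ k) (hk : k ≤ 2) {q : ℕ} (hq : q = 5 ∨ q = 7) {x : H} (hx : orderOf x = q)
    (hn : ∀ a ∈ P, x * a * x⁻¹ ∈ P) : ∀ a ∈ P, x * a = a * x := by
  haveI : Fact q.Prime := ⟨by rcases hq with rfl | rfl <;> norm_num⟩
  have hn' : ∀ (i : ℕ), ∀ a ∈ P, x ^ i * a * (x ^ i)⁻¹ ∈ P := by
    intro i
    induction i with
    | zero => intro a ha; simpa using ha
    | succ i ih =>
      intro a ha
      rw [show x ^ (i + 1) * a * (x ^ (i + 1))⁻¹ = x * (x ^ i * a * (x ^ i)⁻¹) * x⁻¹ by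
        rw [pow_succ']; group]
      exact hn _ (ih a ha)
  have hz : ∀ h : ↥(Subgroup.zpowers x), ∀ a ∈ P, (h : H) * a * (h : H)⁻¹ ∈ P := by
    rintro ⟨h, hh⟩ a ha
    obtain ⟨i, hi⟩ := mem_powers_iff_mem_zpowers.2 hh
    show h * a * h⁻¹ ∈ P
    rw [← hi]
    exact hn' i a ha
  letI : MulAction ↥(Subgroup.zpowers x) ↥P :=
    { smul := fun h a => ⟨(h : H) * a * (h : H)⁻¹, hz h a a.2⟩
      one_smul := fun a => Subtype.ext (by show (1 : H) * a * 1⁻¹ = a; simp)
      mul_smul := fun g h a => Subtype.ext (by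
        show ((g : H) * h) * a * ((g : H) * h)⁻¹ = g * (h * a * (h : H)⁻¹) * (g : H)⁻¹
        group) }
  have hp : IsPGroup q ↥(Subgroup.zpowers x) :=
    IsPGroup.of_card (n := 1) (by rw [Nat.card_zpowers, hx, pow_one])
  let F : Subgroup H := P ⊓ Subgroup.centralizer {x}
  have hFfix : Nat.card (MulAction.fixedPoints ↥(Subgroup.zpowers x) ↥P) = Nat.card F := by
    refine Nat.card_congr
      { toFun := fun a => ⟨a.1.1, a.1.2, ?_⟩
        invFun := fun a => ⟨⟨a.1, a.2.1⟩, ?_⟩
        left_inv := fun a => rfl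
        right_inv := fun a => rfl }
    · show (a.1 : H) ∈ Subgroup.centralizer {x}
      rw [Subgroup.mem_centralizer_singleton_iff]
      have h := congrArg Subtype.val (a.2 ⟨x, Subgroup.mem_zpowers _⟩)
      exact (mul_inv_eq_iff_eq_mul.1 h).symm
    · intro h
      obtain ⟨i, hi⟩ := h.2
      refine Subtype.ext ?_
      show (h : H) * (a.1 : H) * (h : H)⁻¹ = a.1
      have hc : Commute (a.1 : H) x := Subgroup.mem_centralizer_singleton_iff.1 a.2.2
      have : Commute (a.1 : H) (h : H) := hi ▸ hc.zpow_right i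
      rw [← this.eq, mul_inv_cancel_right]
  have hFP : F = P := by
    refine Subgroup.eq_of_le_of_card_ge inf_le_left ?_
    obtain ⟨c, hck, hc⟩ := (Nat.dvd_prime_pow Nat.prime_three).1
      (hP ▸ Subgroup.card_dvd_of_le (inf_le_left : F ≤ P))
    have hmod := hp.card_modEq_card_fixedPoints (α := ↥P)
    rw [hFfix, hP, hc] at hmod
    have hkey : ∀ i j : Fin 3, 3 ^ (i : ℕ) % q = 3 ^ (j : ℕ) % q → i = j := by
      rcases hq with rfl | rfl <;> decide
    have hkc : k = c := congrArg Fin.val (hkey ⟨k, by omega⟩ ⟨c, by omega⟩ hmod)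
    rw [hP, hc, hkc]
  intro a ha
  rw [← hFP] at ha
  exact (Subgroup.mem_centralizer_singleton_iff.1 ha.2).symm

/-- The normaliser in `A₈` of the group generated by an element of order five or seven. -/
theorem normalizer_dvd {H : Type u} [Group H] [Finite H] (f : H →* A8) (hf : Function.Injective f)
    {q : ℕ} (hq : q = 5 ∨ q = 7) (R K : Subgroup H) (hR : Nat.card R = q)
    (hK : K ≤ Subgroup.normalizer (R : Set H)) : 2 * Nat.card K ∣ q * (q - 1) * (8 - q).factorial := by
  haveI : Fact q.Prime := ⟨by rcases hq with rfl | rfl <;> norm_num⟩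
  have h := SubgroupsA8.card_normalizer_alt (n := 8) (p := q) (by omega) (by omega) (by omega) (R.map f)
    (by rw [Subgroup.card_map_of_injective hf, hR])
  have h2 : Nat.card (K.map f) ∣ _ :=
    Subgroup.card_dvd_of_le ((Subgroup.map_mono hK).trans (Subgroup.le_normalizer_map (H := R) f))
  rw [Subgroup.card_map_of_injective hf] at h2
  exact (Nat.mul_dvd_mul_left 2 h2).trans h

/-- No element of order five or seven normalizes a subgroup of order nine. -/
theorem no_nine {H : Type u} [Group H] [Finite H] (f : H →* A8) (hf : Function.Injective f)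
    (P : Subgroup H) (hP : Nat.card P = 9) {q : ℕ} (hq : q = 5 ∨ q = 7) {x : H} (hx : orderOf x = q)
    (hn : ∀ a ∈ P, x * a * x⁻¹ ∈ P) : False := by
  have hc := commute_of_normalize P (k := 2) (by rw [hP]; norm_num) le_rfl hq hx hn
  have hle : P ≤ Subgroup.normalizer (Subgroup.zpowers x : Set H) := by
    intro a ha
    refine Subgroup.centralizer_le_normalizer _ ?_
    rw [Subgroup.mem_centralizer_iff]
    rintro _ ⟨i, rfl⟩
    exact (Commute.zpow_left (hc a ha) i).eq
  have h := normalizer_dvd f hf hq (Subgroup.zpowers x) P (by rw [Nat.card_zpowers, hx]) hle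
  rw [hP] at h
  rcases hq with rfl | rfl <;> norm_num [Nat.factorial] at h

theorem solvable_of_quotient_small {Q : Type u} [Group Q] [Finite Q] (P : Subgroup Q) [P.Normal]
    (hP : Group.IsSolvable ↥P) (h : Nat.card (Q ⧸ P) < 60) : Group.IsSolvable Q := by
  haveI := hP
  haveI : Group.IsSolvable (Q ⧸ P) := Spectrum.isSolvable_of_card_lt_sixty _ rfl h
  exact Group.isSolvable_of_ker_le_range P.subtype (QuotientGroup.mk' P) (by simp)

theorem solvable_of_pGroup {P : Type u} [Group P] [Finite P] {p : ℕ} [Fact p.Prime] (h : IsPGroup p P) :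
    Group.IsSolvable P := by
  haveI := h.isNilpotent
  infer_instance

/-- Without normal `p`-subgroups there is no normal subgroup of odd order. -/
theorem pPrimeCore_bot {Q : Type u} [Group Q] [Finite Q] (f : Q →* A8) (hf : Function.Injective f)
    (hnp : SubgroupsA8.NoP Q) : Cfsg.pPrimeCore 2 Q = ⊥ := by
  by_contra hne
  set O := Cfsg.pPrimeCore 2 Q with hOdef
  have hodd : ¬ 2 ∣ Nat.card O := by
    intro h
    have h1 : (Nat.card O).Coprime 2 := Cores.pPrimeCore_coprime 2
    rw [Nat.coprime_two_right] at h1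
    exact Nat.not_even_iff_odd.2 h1 (even_iff_two_dvd.2 h)
  have hOn : SubgroupsA8.NoP ↥O := SubgroupsA8.noP_normal hnp O
  haveI := (Subgroup.nontrivial_iff_ne_bot O).2 hne
  have hns := SubgroupsA8.nontrivial_not_solvable hOn
  let g : ↥O →* A8 := f.comp O.subtype
  have hg : Function.Injective g := hf.comp O.subtype_injective
  have hd : Nat.card O ∣ 20160 := card_A8 ▸ Subgroup.card_dvd_of_injective g hg
  have h315 : Nat.card O ∣ 315 :=
    (Nat.Coprime.pow_right 6 ((Nat.Prime.coprime_iff_not_dvd Nat.prime_two).2 hodd).symm).dvd_of_dvd_mul_left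
      (show Nat.card O ∣ 2 ^ 6 * 315 from hd)
  have h7 : 7 ∣ Nat.card O := by
    by_contra h
    apply hns
    refine SubgroupsA8.isSolvable_of_dvd Nat.prime_three Nat.prime_five (a := 2) (b := 1) ?_
    exact ((Nat.Prime.coprime_iff_not_dvd (by norm_num : Nat.Prime 7)).2 h).symm.dvd_of_dvd_mul_left
      (show Nat.card O ∣ 7 * (3 ^ 2 * 5 ^ 1) from h315)
  haveI : Fact (Nat.Prime 7) := ⟨by norm_num⟩
  obtain ⟨s, m, hsm, hpm, h2m, hs1, hs, hK⟩ :=
    SubgroupsA8.sylow_data hOn (n := 8) (p := 7) (by norm_num) (by norm_num) (by norm_num) g hg h7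
  have hm : m = 7 ∨ m = 21 := by
    obtain ⟨j, rfl⟩ := hpm
    have h21 : 7 * j ∣ 7 * 3 := Nat.dvd_of_mul_dvd_mul_left (by norm_num : 0 < 2) h2m
    rcases (Nat.dvd_prime Nat.prime_three).1 (Nat.dvd_of_mul_dvd_mul_left (by norm_num) h21) with rfl | rfl <;> simp
  have hs15 : s = 15 := by
    have h45 : s ∣ 45 := by
      obtain ⟨j, rfl⟩ := hpm
      exact Nat.dvd_of_mul_dvd_mul_right (by norm_num : 0 < 7)
        ((dvd_mul_right (s * 7) j).trans (by rw [mul_assoc, ← hsm]; exact h315))
    have hmem : s ∈ Nat.divisors 45 := Nat.mem_divisors.2 ⟨h45, by norm_num⟩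
    rw [show Nat.divisors 45 = {1, 3, 5, 9, 15, 45} by decide] at hmem
    simp only [Finset.mem_insert, Finset.mem_singleton] at hmem
    rcases hmem with rfl | rfl | rfl | rfl | rfl | rfl <;>
      first | rfl | exact absurd rfl hs | (exfalso; norm_num at hs1)
  rcases hm with rfl | rfl
  · obtain ⟨K, hKn, hKc⟩ := hK rfl
    haveI := hKn
    have := SubgroupsA8.eq_bot_of_solvable hOn K
      (SubgroupsA8.isSolvable_of_dvd Nat.prime_three Nat.prime_five (a := 1) (b := 1) (by rw [hKc, hs15]; norm_num))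
    rw [this, Subgroup.card_bot] at hKc
    omega
  · have hcard : Nat.card O = 315 := by rw [hsm, hs15]
    haveI : Fact (Nat.Prime 3) := ⟨Nat.prime_three⟩
    haveI : Fact (Nat.Prime 5) := ⟨Nat.prime_five⟩
    obtain ⟨P⟩ : Nonempty (Sylow 3 ↥O) := inferInstance
    have hP9 : Nat.card P = 9 := by
      obtain ⟨j, hj⟩ := IsPGroup.iff_card.1 P.isPGroup'
      have h9 : 3 ^ 2 ∣ Nat.card P := P.pow_dvd_card_of_pow_dvd_card (n := 2) (by rw [hcard]; norm_num)
      have hjd : 3 ^ j ∣ 315 := hcard ▸ hj ▸ Subgroup.card_subgroup_dvd_card (P : Subgroup ↥O)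
      rw [hj] at h9 ⊢
      have hj2 : 2 ≤ j := (Nat.pow_dvd_pow_iff_le_right (by norm_num)).1 h9
      by_contra hne9
      have hj3 : 3 ≤ j := by
        by_contra hlt
        exact hne9 (by rw [show j = 2 by omega]; norm_num)
      exact absurd ((pow_dvd_pow 3 hj3).trans hjd) (by norm_num)
    set n3 := Nat.card (Sylow 3 ↥O) with hn3
    have hn1 : n3 ≠ 1 := SubgroupsA8.card_sylow_ne_one hOn (by rw [hcard]; norm_num) P
    have hn35 : n3 ∣ 35 := by
      have h := P.card_dvd_index
      have hidx := (P : Subgroup ↥O).card_mul_index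
      rw [show Nat.card (P : Subgroup ↥O) = 9 from hP9, hcard] at hidx
      rwa [show (P : Subgroup ↥O).index = 35 by omega] at h
    have hn7 : n3 = 7 := by
      have hmod := card_sylow_modEq_one 3 ↥O
      have hmem : n3 ∈ Nat.divisors 35 := Nat.mem_divisors.2 ⟨hn35, by norm_num⟩
      rw [show Nat.divisors 35 = {1, 5, 7, 35} by decide] at hmem
      simp only [Finset.mem_insert, Finset.mem_singleton] at hmem
      rw [← hn3, Nat.ModEq] at hmod
      omega
    have hN : Nat.card ↥(Subgroup.normalizer ((P : Subgroup ↥O) : Set ↥O)) = 45 := by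
      have h : Nat.card ↥(Subgroup.normalizer (P : Set ↥O)) * Nat.card (Sylow 3 ↥O) = Nat.card ↥O := by
        rw [P.card_eq_index_normalizer]
        exact Subgroup.card_mul_index _
      rw [← hn3, hn7, hcard] at h
      show Nat.card ↥(Subgroup.normalizer (P : Set ↥O)) = 45
      omega
    obtain ⟨x, hx⟩ := exists_prime_orderOf_dvd_card'
      (G := ↥(Subgroup.normalizer ((P : Subgroup ↥O) : Set ↥O))) 5 (by rw [hN]; norm_num)
    exact no_nine g hg (P : Subgroup ↥O) hP9 (Or.inl rfl) (x := (x : ↥O))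
      (by rw [Subgroup.orderOf_coe, hx]) fun a ha => (Subgroup.mem_normalizer_iff.1 x.2 a).1 ha

/-- A non-solvable subgroup of `A₈` with a non-trivial normal `r`-subgroup, `r` odd. -/
theorem radical {Q : Type u} [Group Q] [Finite Q] (f : Q →* A8) (hf : Function.Injective f)
    (hns : ¬ Group.IsSolvable Q) {r : ℕ} (hr : r.Prime) (hr2 : r ≠ 2) (hne : Cfsg.pCore r Q ≠ ⊥) :
    Nat.card ↥(Cfsg.pCore 3 Q) = 3 ∧
      (Nonempty (Q ⧸ Cfsg.pCore 3 Q ≃* alternatingGroup (Fin 5)) ∨
        Nonempty (Q ⧸ Cfsg.pCore 3 Q ≃* Perm (Fin 5))) := by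
  classical
  haveI := Fact.mk hr
  set P := Cfsg.pCore r Q with hPdef
  have hPp : IsPGroup r ↥P := Cores.pCore_isPGroup r
  obtain ⟨k, hk⟩ := IsPGroup.iff_card.1 hPp
  have hk0 : k ≠ 0 := fun h => hne (Subgroup.card_eq_one.1 (by rw [hk, h, pow_zero]))
  have hd : Nat.card Q ∣ 20160 := card_A8 ▸ Subgroup.card_dvd_of_injective f hf
  have hkd : r ^ k ∣ 20160 := hk ▸ (Subgroup.card_subgroup_dvd_card P).trans hd
  have hr357 : r = 3 ∨ r = 5 ∨ r = 7 := by
    have h1 : r ∣ 20160 := (dvd_pow_self r hk0).trans hkd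
    have hle : r ∈ (20160 : ℕ).primeFactors := Nat.mem_primeFactors.2 ⟨hr, h1, by norm_num⟩
    rw [show (20160 : ℕ) = 2 ^ 6 * (3 ^ 2 * (5 * 7)) by norm_num,
      Nat.primeFactors_mul (by norm_num) (by norm_num), Nat.primeFactors_mul (by norm_num) (by norm_num),
      Nat.primeFactors_mul (by norm_num) (by norm_num), Nat.primeFactors_prime_pow (by norm_num) Nat.prime_two,
      Nat.primeFactors_prime_pow (by norm_num) Nat.prime_three, Nat.prime_five.primeFactors,
      (by norm_num : Nat.Prime 7).primeFactors] at hle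
    simp only [Finset.mem_union, Finset.mem_singleton] at hle
    omega
  have hPsol : Group.IsSolvable ↥P := solvable_of_pGroup hPp
  have hquot : 60 ≤ Nat.card (Q ⧸ P) := not_lt.1 fun h => hns (solvable_of_quotient_small P hPsol h)
  have hQP : Nat.card P * Nat.card (Q ⧸ P) = Nat.card Q := Subgroup.card_mul_index P
  rcases hr357 with rfl | hr57
  swap
  · exfalso
    have hk1 : k = 1 := by
      by_contra hk1
      have h2 : r ^ 2 ∣ 20160 := (pow_dvd_pow r (by omega)).trans hkd
      rcases hr57 with rfl | rfl <;> norm_num at h2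
    have h := normalizer_dvd f hf hr57 P ⊤ (by rw [hk, hk1, pow_one]) (by rw [Subgroup.normalizer_eq_top])
    rw [Subgroup.card_top, ← hQP, hk, hk1, pow_one] at h
    have hle := Nat.le_of_dvd (by rcases hr57 with rfl | rfl <;> norm_num [Nat.factorial]) h
    rcases hr57 with rfl | rfl <;> norm_num [Nat.factorial] at hle <;> omega
  · have hk2 : k ≤ 2 := by
      by_contra hlt
      exact absurd ((pow_dvd_pow 3 (by omega : 3 ≤ k)).trans hkd) (by norm_num)
    have hPn : ∀ (x : Q), ∀ a ∈ P, x * a * x⁻¹ ∈ P := fun x a ha =>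
      (inferInstance : P.Normal).conj_mem a ha x
    have hk1 : k = 1 := by
      by_contra hk1
      have hq : 5 ∣ Nat.card Q ∨ 7 ∣ Nat.card Q := by
        by_contra hcon
        push Not at hcon
        apply hns
        refine SubgroupsA8.isSolvable_of_dvd Nat.prime_two Nat.prime_three (a := 6) (b := 2) ?_
        have h1 := ((Nat.prime_five.coprime_iff_not_dvd).2 hcon.1).symm.dvd_of_dvd_mul_left
          (show Nat.card Q ∣ 5 * (7 * (2 ^ 6 * 3 ^ 2)) from hd)
        exact ((Nat.Prime.coprime_iff_not_dvd (by norm_num)).2 hcon.2).symm.dvd_of_dvd_mul_left h1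
      have hk9 : Nat.card P = 9 := by rw [hk, show k = 2 by omega]; norm_num
      rcases hq with h | h
      · haveI := Fact.mk Nat.prime_five
        obtain ⟨x, hx⟩ := exists_prime_orderOf_dvd_card' 5 h
        exact no_nine f hf P hk9 (Or.inl rfl) hx (hPn x)
      · haveI : Fact (Nat.Prime 7) := ⟨by norm_num⟩
        obtain ⟨x, hx⟩ := exists_prime_orderOf_dvd_card' 7 h
        exact no_nine f hf P hk9 (Or.inr rfl) hx (hPn x)
    rw [hk1, pow_one] at hk
    obtain ⟨⟨g, hgP⟩, hg⟩ := exists_prime_orderOf_dvd_card' (G := ↥P) 3 (by rw [hk])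
    rw [Subgroup.orderOf_mk] at hg
    have h7 : ¬ 7 ∣ Nat.card Q := by
      intro h
      haveI : Fact (Nat.Prime 7) := ⟨by norm_num⟩
      obtain ⟨x, hx⟩ := exists_prime_orderOf_dvd_card' 7 h
      have hc : Commute x g :=
        commute_of_normalize P (k := 1) (by rw [hk, pow_one]) (by norm_num) (Or.inr rfl) hx (hPn x) g hgP
      have ho : orderOf (x * g) = 21 := by
        rw [hc.orderOf_mul_eq_mul_orderOf_of_coprime (by rw [hx, hg]; norm_num), hx, hg]
      refine no_order_twenty_one ((f (x * g) : A8) : Perm (Fin 8)) ?_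
      rw [Subgroup.orderOf_coe, orderOf_injective f hf, ho]
    have h5 : 5 ∣ Nat.card Q := by
      by_contra h5
      apply hns
      refine SubgroupsA8.isSolvable_of_dvd Nat.prime_two Nat.prime_three (a := 6) (b := 2) ?_
      have h1 := ((Nat.prime_five.coprime_iff_not_dvd).2 h5).symm.dvd_of_dvd_mul_left
        (show Nat.card Q ∣ 5 * (7 * (2 ^ 6 * 3 ^ 2)) from hd)
      exact ((Nat.Prime.coprime_iff_not_dvd (by norm_num)).2 h7).symm.dvd_of_dvd_mul_left h1
    haveI := Fact.mk Nat.prime_five
    obtain ⟨h, hh⟩ := exists_prime_orderOf_dvd_card' 5 h5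
    have hcomm : Commute h g :=
      commute_of_normalize P (k := 1) (by rw [hk, pow_one]) (by norm_num) (Or.inl rfl) hh (hPn h) g hgP
    let pf : Q →* Perm (Fin 8) := (alternatingGroup (Fin 8)).subtype.comp f
    have hpf : Function.Injective pf := (Subgroup.subtype_injective _).comp hf
    set γ := pf g with hγ
    have hγo : orderOf γ = 3 := by rw [hγ, orderOf_injective pf hpf, hg]
    obtain ⟨n, hn⟩ := cycleType_prime_order (σ := γ) (by rw [hγo]; norm_num)
    rw [hγo] at hn
    have hsum : γ.cycleType.sum ≤ 8 := by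
      rw [sum_cycleType]; exact γ.support.card_le_univ.trans (by simp)
    rw [hn, Multiset.sum_replicate, smul_eq_mul] at hsum
    have hn0 : n = 0 := by
      by_contra hne0
      have hn1 : n = 1 := by omega
      have hcard := nat_card_centralizer γ
      rw [hn, hn1, Fintype.card_fin] at hcard
      simp only [Multiset.sum_replicate, smul_eq_mul, Multiset.prod_replicate,
        Multiset.toFinset_replicate] at hcard
      norm_num [Multiset.count_replicate, Nat.factorial] at hcard
      have hmem : pf h ∈ Subgroup.centralizer ({γ} : Set (Perm (Fin 8))) := by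
        rw [Subgroup.mem_centralizer_singleton_iff]
        exact (hcomm.map pf).eq
      have h36 := Subgroup.orderOf_dvd_natCard _ hmem
      rw [Nat.card_eq_fintype_card, hcard, orderOf_injective pf hpf, hh] at h36
      norm_num at h36
    have hsupp : γ.support.card = 3 := by
      rw [← sum_cycleType, hn, hn0]; rfl
    have hPeq : ∀ a ∈ P, a = 1 ∨ a = g ∨ a = g ^ 2 := by
      intro a ha
      have hzP : Subgroup.zpowers g = P :=
        Subgroup.eq_of_le_of_card_ge (Subgroup.zpowers_le.2 hgP) (by rw [Nat.card_zpowers, hg, hk])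
      rw [← hzP, ← mem_powers_iff_mem_zpowers] at ha
      obtain ⟨i, rfl⟩ := ha
      show g ^ i = 1 ∨ g ^ i = g ∨ g ^ i = g ^ 2
      rw [← pow_mod_orderOf, hg]
      rcases (by omega : i % 3 = 0 ∨ i % 3 = 1 ∨ i % 3 = 2) with e | e | e <;> rw [e] <;> simp
    have hstab : ∀ (x : Q) (i : Fin 8), pf x i ∈ γ.support ↔ i ∈ γ.support := by
      intro x i
      have hsame : (pf (x * g * x⁻¹)).support = γ.support := by
        rcases hPeq _ (hPn x g hgP) with e | e | e
        · exfalso
          have : g = 1 := by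
            have := congrArg (fun y => x⁻¹ * y * x) e
            simpa [mul_assoc] using this
          rw [this, orderOf_one] at hg
          norm_num at hg
        · rw [e]
        · rw [e, show g ^ 2 = g⁻¹ by
            rw [eq_inv_iff_mul_eq_one, ← pow_succ, show 2 + 1 = orderOf g by rw [hg], pow_orderOf_eq_one], map_inv, support_inv]
      rw [map_mul, map_mul, map_inv, ← hγ, support_conj] at hsame
      conv_lhs => rw [← hsame]
      exact Finset.mem_map' (pf x).toEmbedding
    let Ω := {i : Fin 8 // i ∉ γ.support}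
    have hΩ : Fintype.card Ω = 5 := by
      rw [Fintype.card_subtype_compl, Fintype.card_coe, Fintype.card_fin, hsupp]
    let ψ0 : Q →* Perm Ω :=
      { toFun := fun x => (pf x).subtypePerm fun i => not_congr (hstab x i)
        map_one' := Equiv.ext fun i => Subtype.ext (by simp [subtypePerm_apply])
        map_mul' := fun x y => Equiv.ext fun i => Subtype.ext (by simp [subtypePerm_apply]) }
    have hψker : ψ0.ker = P := by
      have hfix : ∀ x ∈ ψ0.ker, ∀ i, i ∉ γ.support → pf x i = i := fun x hx i hi =>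
        congrArg Subtype.val (DFunLike.congr_fun (MonoidHom.mem_ker.1 hx) (⟨i, hi⟩ : Ω))
      refine (Subgroup.eq_of_le_of_card_ge ?_ ?_).symm
      · intro a ha
        rw [MonoidHom.mem_ker]
        refine Equiv.ext fun i => Subtype.ext ?_
        show pf a i.1 = i.1
        have hgi : γ i.1 = i.1 := notMem_support.1 i.2
        rcases hPeq a ha with rfl | rfl | rfl
        · simp
        · exact hgi
        · rw [map_pow, pow_two, Perm.mul_apply, ← hγ, hgi, hgi]
      · obtain ⟨a, ha⟩ := Finset.card_pos.1 (by omega : 0 < γ.support.card)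
        have hinj : Function.Injective (fun x : ψ0.ker => (⟨pf x a, (hstab x a).2 ha⟩ : γ.support)) := by
          rintro ⟨x, hx⟩ ⟨y, hy⟩ e
          have e' : pf x a = pf y a := congrArg Subtype.val e
          apply Subtype.ext
          have hm : y⁻¹ * x ∈ ψ0.ker := ψ0.ker.mul_mem (ψ0.ker.inv_mem hy) hx
          have hfa : pf (y⁻¹ * x) a = a := by
            rw [map_mul, map_inv, Perm.mul_apply, e', ← Perm.mul_apply, inv_mul_cancel, Perm.one_apply]
          have hss : (pf (y⁻¹ * x)).support ⊆ γ.support.erase a := by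
            intro i hi
            rw [mem_support] at hi
            exact Finset.mem_erase.2 ⟨fun e => hi (e ▸ hfa),
              by_contra fun h' => hi (hfix _ hm i h')⟩
          have hle := Finset.card_le_card hss
          rw [Finset.card_erase_of_mem ha, hsupp] at hle
          have h1 : (pf (y⁻¹ * x)) = 1 := by
            by_contra hne1
            have h2 := card_support_eq_two.1 (le_antisymm hle (two_le_card_support_of_ne_one hne1))
            have hev : sign (pf (y⁻¹ * x)) = 1 := mem_alternatingGroup.1 (f (y⁻¹ * x)).2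
            rw [h2.sign_eq] at hev
            exact absurd hev (by decide)
          exact (inv_mul_eq_one.1 (hpf (h1.trans (map_one pf).symm))).symm
        have hle := Nat.card_le_card_of_injective _ hinj
        rw [Nat.card_eq_fintype_card (α := γ.support), Fintype.card_coe, hsupp] at hle
        rw [hk]
        exact hle
    let ψ : Q →* Perm (Fin 5) := (Fintype.equivFinOfCardEq hΩ).permCongrHom.toMonoidHom.comp ψ0
    have hψ : ψ.ker = P := by
      rw [← hψker]
      ext x
      rw [MonoidHom.mem_ker, MonoidHom.mem_ker]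
      exact (Fintype.equivFinOfCardEq hΩ).permCongrHom.map_eq_one_iff
    refine ⟨hk, ?_⟩
    let e0 : Q ⧸ P ≃* ψ.range :=
      (QuotientGroup.quotientMulEquivOfEq hψ.symm).trans (QuotientGroup.quotientKerEquivRange ψ)
    have hrange : Nat.card ψ.range = Nat.card (Q ⧸ P) := (Nat.card_congr e0.toEquiv).symm
    have h120 : Nat.card ψ.range ∣ 120 := by
      have := Subgroup.card_subgroup_dvd_card ψ.range
      rwa [Nat.card_perm, Nat.card_fin] at this
    have hidx := Subgroup.card_mul_index ψ.range
    rw [Nat.card_perm, Nat.card_fin, show Nat.factorial 5 = 120 from rfl] at hidx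
    have hge : 60 ≤ Nat.card ψ.range := hrange ▸ hquot
    obtain h1 | h2 : ψ.range.index = 1 ∨ ψ.range.index = 2 := by
      have h0 : ψ.range.index ≠ 0 := Subgroup.index_ne_zero_of_finite
      have h3 : 60 * ψ.range.index ≤ 120 := hidx ▸ Nat.mul_le_mul_right _ hge
      omega
    · exact Or.inr ⟨e0.trans ((MulEquiv.subgroupCongr (Subgroup.index_eq_one.1 h1)).trans Subgroup.topEquiv)⟩
    · exact Or.inl ⟨e0.trans (MulEquiv.subgroupCongr (Equiv.Perm.eq_alternatingGroup_of_index_eq_two h2))⟩

end Cfsg.Agent.Lib.Inv59.RankFour
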