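import Mathlib
import Cfsg.Agent.Lib.Inv59.RankFour.Five

/-!
# `O₂` of order `16` or `32` when the quotient is `A₅`
-/

set_option autoImplicit false
set_option linter.unusedSectionVars false
set_option linter.style.haveILetI false

namespace Cfsg.Agent.Lib.Inv59.RankFour

universe u

local notation "A5" => alternatingGroup (Fin 5)

variable {G : Type u} [Group G] [Finite G] {Q : Subgroup G} [Q.Normal] {φ : G →* A5}

/-- Fixed point freeness passes to quotients. -/
theorem free_quot (W N : Subgroup G) [W.Normal] [N.Normal] (hNW : N ≤ W) (hN : IsPGroup 2 N)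
    (hfree : FiveFree Q W) :
    FiveFree (Q.map (QuotientGroup.mk' N)) (W.map (QuotientGroup.mk' N)) := by
  intro yb hyb xb hxb hmem
  obtain ⟨x, hx, rfl⟩ := hxb
  obtain ⟨g, rfl⟩ := QuotientGroup.mk'_surjective N yb
  let π := QuotientGroup.mk' N
  have h5 : g ^ 5 ∈ N := by
    rw [← QuotientGroup.eq_one_iff]
    show π (g ^ 5) = 1
    rw [map_pow, ← hyb]
    exact pow_orderOf_eq_one _
  obtain ⟨k, hk⟩ := hN ⟨g ^ 5, h5⟩
  have hk' : (g ^ 5) ^ 2 ^ k = 1 := congrArg Subtype.val hk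
  set y := g ^ 2 ^ k with hy
  have hy5 : y ^ 5 = 1 := by rw [hy, ← pow_mul, mul_comm, pow_mul, hk']
  haveI : Fact (Nat.Prime 5) := ⟨by norm_num⟩
  have hy1 : y ≠ 1 := by
    intro h
    have hd : orderOf (π g) ∣ 2 ^ k := orderOf_dvd_of_pow_eq_one (by rw [← map_pow, ← hy, h, map_one])
    rw [hyb] at hd
    have := Nat.Prime.dvd_of_dvd_pow (by norm_num : Nat.Prime 5) hd
    norm_num at this
  have hord : orderOf y = 5 := orderOf_eq_prime hy5 hy1
  have hgx : g * x * g⁻¹ * x⁻¹ ∈ W := by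
    obtain ⟨w, hw, he⟩ := hmem
    rw [show g * x * g⁻¹ * x⁻¹ = g * x * g⁻¹ * x⁻¹ * w⁻¹ * w by group]
    refine W.mul_mem (hNW ?_) hw
    rw [← QuotientGroup.eq_one_iff]
    show π (g * x * g⁻¹ * x⁻¹ * w⁻¹) = 1
    rw [map_mul, map_mul, map_mul, map_mul, map_inv, map_inv, map_inv, he, mul_inv_cancel]
  refine ⟨x, hfree y hord x hx ?_, rfl⟩
  have h1 := (QuotientGroup.eq_one_iff _).2 hgx
  rw [QuotientGroup.mk_mul, QuotientGroup.mk_mul, QuotientGroup.mk_mul, QuotientGroup.mk_inv,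
    QuotientGroup.mk_inv] at h1
  have hc : Commute (g : G ⧸ W) (x : G ⧸ W) := mul_inv_eq_iff_eq_mul.1 (mul_inv_eq_one.1 h1)
  rw [← QuotientGroup.eq_one_iff, QuotientGroup.mk_mul, QuotientGroup.mk_mul, QuotientGroup.mk_mul,
    QuotientGroup.mk_inv, QuotientGroup.mk_inv, hy, QuotientGroup.mk_pow, (hc.pow_left _).eq]
  group

/-- The data induced on a quotient by a normal subgroup inside `Q`. -/
theorem quot_data (hφ : Function.Surjective φ) (hker : φ.ker = Q) (N : Subgroup G) [N.Normal] (hNQ : N ≤ Q) :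
    ∃ φb : G ⧸ N →* A5, Function.Surjective φb ∧ φb.ker = Q.map (QuotientGroup.mk' N) := by
  refine ⟨QuotientGroup.lift N φ (hker.symm ▸ hNQ), fun a => ?_, ?_⟩
  · obtain ⟨g, rfl⟩ := hφ a
    exact ⟨QuotientGroup.mk g, rfl⟩
  · exact (QuotientGroup.ker_lift _ _ _).trans (by rw [hker])

/-- The fixed points on the fibres. -/
theorem fibre_bound (a b c d a' b' c' d' : ℕ) (ha : a % 5 = 0) (hb : b % 5 = 0) (hc : c % 5 = 0)
    (hd : d % 5 = 0) (hs : a + b + c + d = 15) (h1 : 0 < a + b ∧ a + b < 15) (h2 : 0 < a + c ∧ a + c < 15)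
    (h3 : 0 < a + d ∧ a + d < 15) (ea : a % 3 = a' % 3) (eb : b % 3 = b' % 3) (ec : c % 3 = c' % 3)
    (ed : d % 3 = d' % 3) : 4 ≤ a' + b' + c' + d' := by
  rcases (by omega : a = 0 ∨ a = 5 ∨ a = 10) with rfl | rfl | rfl <;>
    rcases (by omega : b = 0 ∨ b = 5 ∨ b = 10) with rfl | rfl | rfl <;>
      rcases (by omega : c = 0 ∨ c = 5 ∨ c = 10) with rfl | rfl | rfl <;>
        rcases (by omega : d = 0 ∨ d = 5 ∨ d = 10) with rfl | rfl | rfl <;> omega

/-- There is no second layer below a central layer of order two. -/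
theorem second_layer (hφ : Function.Surjective φ) (hker : φ.ker = Q) (hQ : IsPGroup 2 Q)
    (hr : Cfsg.SectionalPRankLE 2 4 G) (W N : Subgroup G) [W.Normal] [N.Normal] (hNW : N ≤ W)
    (hWQ : W ≤ Q) (hNne : N ≠ ⊥) (hN2 : ∀ a ∈ N, a * a = 1) (hcN : ∀ a ∈ N, ∀ x ∈ Q, x * a = a * x)
    (hmin : ∀ M : Subgroup G, M.Normal → M ≤ N → M = ⊥ ∨ M = N) (hidx : Nat.card W = 2 * Nat.card N)
    (hWN : ∀ a ∈ W, a * a ∈ N) (hcomW : ∀ a ∈ W, ∀ x ∈ Q, a * x * a⁻¹ * x⁻¹ ∈ N)
    (hsqQ : ∀ x ∈ Q, x * x ∈ W) (hcard : Nat.card Q = 16 * Nat.card W) (hfree : FiveFree Q W)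
    (hgen : ∀ M : Subgroup G, M.Normal → M ≤ W → (∀ x ∈ Q, x * x ∈ M) → M = W) : False := by
  classical
  haveI : Fact (Nat.Prime 5) := ⟨by norm_num⟩
  obtain ⟨y, hy⟩ := exists_order hφ (by norm_num : Nat.Prime 5) (by norm_num)
  have hWn : ∀ (g : G), ∀ a ∈ W, g * a * g⁻¹ ∈ W := fun g a ha => (inferInstance : W.Normal).conj_mem a ha g
  have hNn : ∀ (g : G), ∀ a ∈ N, g * a * g⁻¹ ∈ N := fun g a ha => (inferInstance : N.Normal).conj_mem a ha g
  obtain ⟨w, hw, hwN⟩ : ∃ w ∈ W, w ∉ N := SetLike.not_le_iff_exists.1 fun h => by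
    have := Subgroup.card_le_of_le h
    have := Nat.card_pos (α := N)
    omega
  have hi2 : (N.subgroupOf W).index = 2 := by
    have h := Subgroup.card_mul_index (N.subgroupOf W)
    rw [Nat.card_congr (Subgroup.subgroupOfEquivOfLe hNW).toEquiv, hidx, mul_comm 2] at h
    exact Nat.eq_of_mul_eq_mul_left Nat.card_pos h
  have hcoset : ∀ a ∈ W, a ∈ N ∨ w⁻¹ * a ∈ N := by
    intro a ha
    by_cases h : a ∈ N
    · exact Or.inl h
    · refine Or.inr ?_
      have := (Subgroup.mul_mem_iff_of_index_two hi2 (a := (⟨w, hw⟩ : ↥W)⁻¹) (b := ⟨a, ha⟩)).2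
      rw [Subgroup.mem_subgroupOf, Subgroup.mem_subgroupOf, Subgroup.mem_subgroupOf] at this
      exact this ⟨fun h1 => absurd (inv_inv w ▸ N.inv_mem h1) hwN, fun h1 => absurd h1 h⟩
  have hwc : ∀ a ∈ N, w * a = a * w := fun a ha => hcN a ha w (hWQ hw)
  have hWab : ∀ a ∈ W, ∀ b ∈ W, a * b = b * a := by
    have h1 : ∀ a ∈ W, a * w = w * a := by
      intro a ha
      rcases hcoset a ha with h | h
      · exact (hwc a h).symm
      · have := hwc _ h
        calc a * w = w * (w⁻¹ * a * w) := by group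
          _ = w * (w * (w⁻¹ * a)) := by rw [this]
          _ = w * a := by group
    intro a ha b hb
    rcases hcoset b hb with h | h
    · exact hcN b h a (hWQ ha)
    · calc a * b = a * w * (w⁻¹ * b) := by group
        _ = w * a * (w⁻¹ * b) := by rw [h1 a ha]
        _ = w * (a * (w⁻¹ * b)) := by group
        _ = w * (w⁻¹ * b * a) := by rw [hcN _ h a (hWQ ha)]
        _ = b * a := by group
  rcases layer_order hφ hker hQ hr N hNne hN2 hcN hmin with hN | ⟨hN, hNfix⟩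
  swap
  · -- `W` would be elementary abelian of order `32`
    have hyw : w⁻¹ * (y * w * y⁻¹) ∈ N := by
      refine (hcoset _ (hWn y w hw)).resolve_left fun h => hwN ?_
      have := hNn y⁻¹ _ h
      rwa [show y⁻¹ * (y * w * y⁻¹) * y⁻¹⁻¹ = w by group] at this
    set n := w⁻¹ * (y * w * y⁻¹) with hn
    have hww : w * w = 1 := by
      refine hNfix y hy _ (hWN w hw) ?_
      calc y * (w * w) * y⁻¹ = (y * w * y⁻¹) * (y * w * y⁻¹) := by group
        _ = w * (n * w) * n := by rw [show y * w * y⁻¹ = w * n by rw [hn]; group]; group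
        _ = w * (w * n) * n := by rw [hwc n hyw]
        _ = w * w * (n * n) := by group
        _ = w * w := by rw [hN2 n hyw, mul_one]
    have h2 : ∀ a ∈ W, a * a = 1 := by
      intro a ha
      rcases hcoset a ha with h | h
      · exact hN2 a h
      · set m := w⁻¹ * a with hm
        have ha' : a = w * m := by rw [hm]; group
        calc a * a = w * (m * w) * m := by rw [ha']; group
          _ = w * (w * m) * m := by rw [hwc m h]
          _ = w * w * (m * m) := by group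
          _ = 1 := by rw [hww, hN2 m h, one_mul]
    have h := section_le hr W ⊥ bot_le
      (fun h _ k hk => by rw [Subgroup.mem_bot.1 hk]; simp) fun a ha => Subgroup.mem_bot.2 (h2 a ha)
    rw [Subgroup.card_bot, hidx, hN] at h
    norm_num at h
  -- `N` has order two
  rw [hN] at hidx
  norm_num at hidx
  have hcard64 : Nat.card Q = 64 := by rw [hcard, hidx]
  have hcW : ∀ a ∈ W, ∀ x ∈ Q, x * a = a * x := by
    set R := Q ⊓ Subgroup.centralizer (W : Set G) with hR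
    have hWR : W ≤ R := fun a ha => ⟨hWQ ha, Subgroup.mem_centralizer_iff.2 fun b hb => hWab b hb a ha⟩
    have hkN : ∀ x ∈ Q, x * w * x⁻¹ * w⁻¹ ∈ N := fun x hx => by
      have := N.inv_mem (hcomW w hw x hx)
      rwa [show (w * x * w⁻¹ * x⁻¹)⁻¹ = x * w * x⁻¹ * w⁻¹ by group] at this
    let c : ↥Q →* ↥N := MonoidHom.mk' (fun x => ⟨(x : G) * w * (x : G)⁻¹ * w⁻¹, hkN x x.2⟩) (fun a b => by
      refine Subtype.ext ?_
      show (a : G) * b * w * ((a : G) * b)⁻¹ * w⁻¹ =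
        (a : G) * w * (a : G)⁻¹ * w⁻¹ * ((b : G) * w * (b : G)⁻¹ * w⁻¹)
      set k := (b : G) * w * (b : G)⁻¹ * w⁻¹ with hk
      calc (a : G) * b * w * ((a : G) * b)⁻¹ * w⁻¹ = (a : G) * k * w * (a : G)⁻¹ * w⁻¹ := by rw [hk]; group
        _ = k * (a : G) * w * (a : G)⁻¹ * w⁻¹ := by rw [hcN k (hkN b b.2) a a.2]
        _ = k * ((a : G) * w * (a : G)⁻¹ * w⁻¹) := by group
        _ = (a : G) * w * (a : G)⁻¹ * w⁻¹ * k :=
          (hcN k (hkN b b.2) _ (Q.mul_mem (Q.mul_mem (Q.mul_mem a.2 (hWQ hw)) (Q.inv_mem a.2))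
            (Q.inv_mem (hWQ hw)))).symm)
    have hkR : Nat.card c.ker ≤ Nat.card R := by
      refine Nat.card_le_card_of_injective (fun x => ⟨x.1.1, x.1.2, ?_⟩) ?_
      · show (x.1 : G) ∈ Subgroup.centralizer (W : Set G)
        rw [Subgroup.mem_centralizer_iff]
        intro a ha
        have hxw : (x.1 : G) * w = w * x.1 :=
          mul_inv_eq_iff_eq_mul.1 (mul_inv_eq_one.1 (congrArg Subtype.val (MonoidHom.mem_ker.1 x.2)))
        rcases hcoset a ha with h | h
        · exact (hcN a h _ x.1.2).symm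
        · calc a * (x.1 : G) = w * (w⁻¹ * a * x.1) := by group
            _ = w * ((x.1 : G) * (w⁻¹ * a)) := by rw [hcN _ h _ x.1.2]
            _ = w * x.1 * (w⁻¹ * a) := by group
            _ = x.1 * w * (w⁻¹ * a) := by rw [hxw]
            _ = x.1 * a := by group
      · intro p q e
        have e' := congrArg Subtype.val e
        exact Subtype.ext (Subtype.ext e')
    have hidx' := Subgroup.card_mul_index c.ker
    rw [Subgroup.index_ker, hcard64] at hidx'
    have hle : Nat.card c.range ≤ 2 := hN ▸ Subgroup.card_le_card_group _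
    rcases invariant_between hφ W hWQ hsqQ hcard hfree R hWR inf_le_left with h | h
    · rw [h, hidx] at hkR
      have := Nat.mul_le_mul hkR hle
      omega
    · intro a ha x hx
      exact (Subgroup.mem_centralizer_iff.1 (h.symm ▸ hx : x ∈ R).2 a ha).symm
  have hN' : IsPGroup 2 N := hQ.to_le (hNW.trans hWQ)
  let π := QuotientGroup.mk' N
  have hπs : Function.Surjective π := QuotientGroup.mk'_surjective N
  obtain ⟨φb, hφb, hkb⟩ := quot_data hφ hker N (hNW.trans hWQ)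
  haveI : (Q.map π).Normal := Subgroup.Normal.map inferInstance π hπs
  haveI : (W.map π).Normal := Subgroup.Normal.map inferInstance π hπs
  have hmW : ∀ x, π x ∈ W.map π → x ∈ W := by
    rintro x ⟨a, ha, he⟩
    have : a⁻¹ * x ∈ N := by
      rw [← QuotientGroup.eq_one_iff]
      show π (a⁻¹ * x) = 1
      rw [map_mul, map_inv, he, inv_mul_cancel]
    rw [show x = a * (a⁻¹ * x) by group]
    exact W.mul_mem ha (hNW this)
  obtain ⟨hcen1, -⟩ := trivial_layer (φ := φb) (Q := Q.map π) hφb (W.map π) (Subgroup.map_mono hWQ)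
    (by rintro _ ⟨a, ha, rfl⟩ _ ⟨x, hx, rfl⟩; rw [← map_mul, ← map_mul, hcW a ha x hx])
    (by have h : Nat.card ↥(W.map π) * Nat.card N = Nat.card W := card_map_mk N W hNW
        rw [hidx, hN] at h; omega)
    (by rintro _ ⟨x, hx, rfl⟩; rw [← map_mul]; exact ⟨_, hsqQ x hx, rfl⟩)
    (by have h : Nat.card ↥(Q.map π) * Nat.card N = Nat.card Q := card_map_mk N Q (hNW.trans hWQ)
        rw [hcard64, hN] at h; omega)
    (free_quot W N hNW hN' hfree)
    (by
      by_contra hall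
      push Not at hall
      have hM : ∀ x ∈ Q, x * x ∈ N := fun x hx => (QuotientGroup.eq_one_iff _).1
        ((map_mul π x x).trans (hall (π x) ⟨x, hx, rfl⟩))
      have := hgen N inferInstance hNW hM
      rw [← this, hN] at hidx
      omega)
  by_cases hw2 : w * w = 1
  swap
  · -- `W` cyclic: commutators fall into `N`
    obtain ⟨x, hx, hxW⟩ : ∃ x ∈ Q, x ∉ W := SetLike.not_le_iff_exists.1 fun h => by
      have := Subgroup.card_le_of_le h
      omega
    obtain ⟨gb, ⟨g, hg, rfl⟩, hne⟩ := hcen1 (π x) ⟨x, hx, rfl⟩ fun h => hxW (hmW x h)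
    apply hne
    set c := g * x * g⁻¹ * x⁻¹ with hcdef
    have hcW' : c ∈ W := by
      rw [hcdef, show g * x * g⁻¹ * x⁻¹ = g * g * ((g⁻¹ * x) * (g⁻¹ * x)) * (x * x)⁻¹ by group]
      exact W.mul_mem (W.mul_mem (hsqQ g hg) (hsqQ _ (Q.mul_mem (Q.inv_mem hg) hx)))
        (W.inv_mem (hsqQ x hx))
    have hc2 : c * c = 1 := by
      have h1 : g * (x * x) * g⁻¹ = x * x := by rw [hcW _ (hsqQ x hx) g hg, mul_inv_cancel_right]
      have h2 : g * (x * x) * g⁻¹ = c * (x * c) * x := by rw [hcdef]; group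
      rw [hcW c hcW' x hx] at h2
      have h3 : c * c * (x * x) = x * x := by
        calc c * c * (x * x) = c * (c * x) * x := by group
          _ = x * x := h2.symm.trans h1
      exact mul_eq_right.1 h3
    have hcN' : c ∈ N := by
      rcases hcoset c hcW' with h | h
      · exact h
      · exfalso
        set m := w⁻¹ * c with hm
        apply hw2
        have : c = w * m := by rw [hm]; group
        rw [← hc2, this]
        calc w * w = w * w * (m * m) := by rw [hN2 m h, mul_one]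
          _ = w * (w * m) * m := by group
          _ = w * (m * w) * m := by rw [hwc m h]
          _ = w * m * (w * m) := by group
    have h1 : π c = 1 := (QuotientGroup.eq_one_iff c).2 hcN'
    rw [hcdef, map_mul, map_mul, map_mul, map_inv, map_inv] at h1
    exact mul_inv_eq_iff_eq_mul.1 (mul_inv_eq_one.1 h1)
  -- `W` is a four group, central in `G`
  have hW2 : ∀ a ∈ W, a * a = 1 := by
    intro a ha
    rcases hcoset a ha with h | h
    · exact hN2 a h
    · set m := w⁻¹ * a with hm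
      have ha' : a = w * m := by rw [hm]; group
      calc a * a = w * (m * w) * m := by rw [ha']; group
        _ = w * (w * m) * m := by rw [hwc m h]
        _ = w * w * (m * m) := by group
        _ = 1 := by rw [hw2, hN2 m h, one_mul]
  obtain ⟨n, hnN, hn1⟩ : ∃ n ∈ N, n ≠ 1 := (Subgroup.bot_or_exists_ne_one N).resolve_left hNne
  have hN12 : ∀ a ∈ N, a = 1 ∨ a = n := by
    intro a ha
    obtain ⟨p, q, -, hu⟩ := Nat.card_eq_two_iff.1 hN
    have h1 : (1 : ↥N) ∈ ({p, q} : Set ↥N) := hu ▸ Set.mem_univ _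
    have hz : (⟨n, hnN⟩ : ↥N) ∈ ({p, q} : Set ↥N) := hu ▸ Set.mem_univ _
    have hw' : (⟨a, ha⟩ : ↥N) ∈ ({p, q} : Set ↥N) := hu ▸ Set.mem_univ _
    simp only [Set.mem_insert_iff, Set.mem_singleton_iff] at h1 hz hw'
    have hzne : (⟨n, hnN⟩ : ↥N) ≠ 1 := fun e => hn1 (congrArg Subtype.val e)
    rcases h1 with rfl | rfl <;> rcases hz with hz | hz <;> rcases hw' with hw' | hw' <;>
      first
        | exact absurd hz hzne
        | exact Or.inl (congrArg Subtype.val hw')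
        | exact Or.inr (congrArg Subtype.val (hw'.trans hz.symm))
  have hfour : ∀ a ∈ W, a = 1 ∨ a = n ∨ a = w ∨ a = w * n := by
    intro a ha
    rcases hcoset a ha with h | h
    · exact (hN12 a h).imp id Or.inl
    · rcases hN12 _ h with e | e
      · exact Or.inr (Or.inr (Or.inl (inv_mul_eq_one.1 e).symm))
      · exact Or.inr (Or.inr (Or.inr (inv_mul_eq_iff_eq_mul.1 e)))
  have hcG : ∀ a ∈ W, ∀ g : G, g * a = a * g := by
    have hgn : ∀ g : G, g * n * g⁻¹ = n := fun g =>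
      (hN12 _ (hNn g n hnN)).resolve_left fun e => hn1 (conj_eq_one_iff.1 e)
    have hyw : y * w * y⁻¹ = w := by
      have hcases : ∀ g : G, g * w * g⁻¹ = w ∨ g * w * g⁻¹ = w * n := by
        intro g
        rcases hfour _ (hWn g w hw) with e | e | e | e
        · exact absurd (conj_eq_one_iff.1 e) fun e' => hwN (e' ▸ N.one_mem)
        · exfalso
          apply hwN
          have h1 : w = g⁻¹ * n * g := by rw [← e]; group
          rw [h1]
          have := hNn g⁻¹ n hnN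
          rwa [inv_inv] at this
        · exact Or.inl e
        · exact Or.inr e
      rcases hcases y with e | e
      · exact e
      · exfalso
        have h2 : y ^ 2 * w * (y ^ 2)⁻¹ = w := by
          calc y ^ 2 * w * (y ^ 2)⁻¹ = y * (y * w * y⁻¹) * y⁻¹ := by rw [pow_two]; group
            _ = y * (w * n) * y⁻¹ := by rw [e]
            _ = (y * w * y⁻¹) * (y * n * y⁻¹) := by group
            _ = w * (n * n) := by rw [e, hgn y, mul_assoc]
            _ = w := by rw [hN2 n hnN, mul_one]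
        have hc : Commute (y ^ 2) w := mul_inv_eq_iff_eq_mul.1 h2
        have h6 : (y ^ 2) ^ 3 = y := by
          rw [← pow_mul, show 2 * 3 = 5 + 1 from rfl, pow_succ, ← hy, pow_orderOf_eq_one, one_mul]
        have hc' : Commute y w := h6 ▸ hc.pow_left 3
        rw [hc'.eq, mul_inv_cancel_right] at e
        exact hn1 (mul_eq_left.1 e.symm)
    rcases normal_above hφ hker (Subgroup.centralizer (W : Set G))
      (fun x hx => Subgroup.mem_centralizer_iff.2 fun a ha => (hcW a ha x hx).symm) with h | h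
    · exfalso
      refine not_mem_Q hQ (by norm_num : Nat.Prime 5) (by norm_num) hy (h ▸ ?_)
      rw [Subgroup.mem_centralizer_iff]
      intro a ha
      have c1 : Commute y n := mul_inv_eq_iff_eq_mul.1 (hgn y)
      have c2 : Commute y w := mul_inv_eq_iff_eq_mul.1 hyw
      rcases hfour a ha with rfl | rfl | rfl | rfl
      · simp
      · exact c1.symm.eq
      · exact c2.symm.eq
      · exact (c2.mul_right c1).symm.eq
    · intro a ha g
      exact (Subgroup.mem_centralizer_iff.1 (h ▸ Subgroup.mem_top g) a ha).symm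
  -- the three quotients of order two
  have hsub : ∀ k ∈ W, k ≠ 1 → (∃ x ∈ Q, x ∉ W ∧ (x * x = 1 ∨ x * x = k)) ∧
      ∃ x ∈ Q, x ∉ W ∧ x * x ≠ 1 ∧ x * x ≠ k := by
    intro k hk hk1
    set K := Subgroup.zpowers k with hKdef
    have hKW : K ≤ W := Subgroup.zpowers_le.2 hk
    haveI hKn : K.Normal := ⟨fun v hv g => by
      rw [hcG v (hKW hv) g, mul_inv_cancel_right]
      exact hv⟩
    have hK2 : Nat.card K = 2 := by
      rw [hKdef, Nat.card_zpowers]
      haveI := Fact.mk Nat.prime_two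
      exact orderOf_eq_prime (by rw [pow_two]; exact hW2 k hk) hk1
    have hK12 : ∀ a ∈ K, a = 1 ∨ a = k := by
      intro a ha
      obtain ⟨i, rfl⟩ := ha
      show k ^ i = 1 ∨ k ^ i = k
      rcases Int.even_or_odd i with ⟨j, rfl⟩ | ⟨j, rfl⟩
      · left
        rw [← two_mul, zpow_mul, show k ^ (2 : ℤ) = 1 by rw [zpow_two]; exact hW2 k hk, one_zpow]
      · right
        rw [zpow_add_one, zpow_mul, show k ^ (2 : ℤ) = 1 by rw [zpow_two]; exact hW2 k hk, one_zpow, one_mul]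
    have hexists : ∃ x ∈ Q, x * x ∉ K := by
      by_contra hall
      push Not at hall
      have := hgen K inferInstance hKW hall
      rw [← this, hK2] at hidx
      omega
    refine ⟨?_, ?_⟩
    · let πk := QuotientGroup.mk' K
      obtain ⟨φk, hφk, hkk⟩ := quot_data hφ hker K (hKW.trans hWQ)
      haveI : (Q.map πk).Normal := Subgroup.Normal.map inferInstance πk (QuotientGroup.mk'_surjective K)
      haveI : (W.map πk).Normal := Subgroup.Normal.map inferInstance πk (QuotientGroup.mk'_surjective K)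
      obtain ⟨-, xb, ⟨x, hx, rfl⟩, hxW, hx2⟩ := trivial_layer (φ := φk) (Q := Q.map πk) hφk (W.map πk)
        (Subgroup.map_mono hWQ)
        (by rintro _ ⟨a, ha, rfl⟩ _ ⟨x, hx, rfl⟩; rw [← map_mul, ← map_mul, hcW a ha x hx])
        (by have h : Nat.card ↥(W.map πk) * Nat.card K = Nat.card W := card_map_mk K W hKW
            rw [hidx, hK2] at h; omega)
        (by rintro _ ⟨x, hx, rfl⟩; rw [← map_mul]; exact ⟨_, hsqQ x hx, rfl⟩)
        (by have h : Nat.card ↥(Q.map πk) * Nat.card K = Nat.card Q := card_map_mk K Q (hKW.trans hWQ)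
            rw [hcard64, hK2] at h; omega)
        (free_quot W K hKW (hQ.to_le (hKW.trans hWQ)) hfree)
        (by
          obtain ⟨x, hx, hxK⟩ := hexists
          exact ⟨πk x, ⟨x, hx, rfl⟩, fun e => hxK ((QuotientGroup.eq_one_iff _).1 ((map_mul πk x x).trans e))⟩)
      exact ⟨x, hx, fun h => hxW ⟨x, h, rfl⟩, hK12 _ ((QuotientGroup.eq_one_iff _).1 ((map_mul πk x x).trans hx2))⟩
    · obtain ⟨x, hx, hxK⟩ := hexists
      exact ⟨x, hx, fun h => hxK (by rw [hW2 x h]; exact K.one_mem), fun e => hxK (e ▸ K.one_mem),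
        fun e => hxK (e ▸ Subgroup.mem_zpowers k)⟩
  -- counting in `Q/W`
  let π1 := QuotientGroup.mk' W
  set V := Q.map π1 with hV
  haveI : V.Normal := Subgroup.Normal.map inferInstance π1 (QuotientGroup.mk'_surjective W)
  let F : G → Set (G ⧸ W) := fun a => π1 '' {x | x ∈ Q ∧ x ∉ W ∧ x * x = a}
  have hsqc : ∀ x ∈ Q, ∀ x' ∈ Q, π1 x = π1 x' → x * x = x' * x' := by
    intro x hx x' hx' he
    have hc : x⁻¹ * x' ∈ W := by
      rw [← QuotientGroup.eq_one_iff]
      show π1 (x⁻¹ * x') = 1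
      rw [map_mul, map_inv, he, inv_mul_cancel]
    set c := x⁻¹ * x' with hcd
    have : x' = x * c := by rw [hcd]; group
    rw [this]
    calc x * x = x * x * (c * c) := by rw [hW2 c hc, mul_one]
      _ = x * (x * c) * c := by group
      _ = x * (c * x) * c := by rw [hcW c hc x hx]
      _ = x * c * (x * c) := by group
  have hdisj : ∀ a b, a ≠ b → Disjoint (F a) (F b) := by
    intro a b hab
    rw [Set.disjoint_left]
    rintro _ ⟨x, ⟨hx, -, rfl⟩, rfl⟩ ⟨x', ⟨hx', -, rfl⟩, e⟩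
    exact hab (hsqc x hx x' hx' e.symm)
  have hn_w : n ≠ w := fun e => hwN (e ▸ hnN)
  have hn_wn : n ≠ w * n := fun e => hwN (mul_eq_right.1 e.symm ▸ N.one_mem)
  have hw_wn : w ≠ w * n := fun e => hn1 (mul_eq_left.1 e.symm)
  have hw1 : (1 : G) ≠ w := fun e => hwN (e ▸ N.one_mem)
  have hwn1 : (1 : G) ≠ w * n := fun e => hwN (by
    rw [show w = w * n * n⁻¹ by group, ← e, one_mul]; exact N.inv_mem hnN)
  have hunion : F 1 ∪ F n ∪ F w ∪ F (w * n) = (V : Set (G ⧸ W)) \ {1} := by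
    ext v
    constructor
    · intro hv
      have : ∃ a, v ∈ F a := by
        rcases hv with ((h | h) | h) | h <;> exact ⟨_, h⟩
      obtain ⟨a, x, ⟨hx, hxW, -⟩, rfl⟩ := this
      exact ⟨⟨x, hx, rfl⟩, fun e => hxW ((QuotientGroup.eq_one_iff x).1 e)⟩
    · rintro ⟨⟨x, hx, rfl⟩, hne⟩
      have hxW : x ∉ W := fun h => hne ((QuotientGroup.eq_one_iff x).2 h)
      have hm : ∀ a, x * x = a → π1 x ∈ F a := fun a e => ⟨x, ⟨hx, hxW, e⟩, rfl⟩
      rcases hfour _ (hsqQ x hx) with e | e | e | e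
      · exact Or.inl (Or.inl (Or.inl (hm _ e)))
      · exact Or.inl (Or.inl (Or.inr (hm _ e)))
      · exact Or.inl (Or.inr (hm _ e))
      · exact Or.inr (hm _ e)
  have hcount : ∀ p : (G ⧸ W) → Prop, ((F 1 ∩ {v | p v}) ∪ (F n ∩ {v | p v}) ∪ (F w ∩ {v | p v}) ∪
      (F (w * n) ∩ {v | p v})).ncard = (F 1 ∩ {v | p v}).ncard + (F n ∩ {v | p v}).ncard +
      (F w ∩ {v | p v}).ncard + (F (w * n) ∩ {v | p v}).ncard := by
    intro p
    have hd : ∀ a b, a ≠ b → Disjoint (F a ∩ {v | p v}) (F b ∩ {v | p v}) := fun a b h =>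
      (hdisj a b h).mono Set.inter_subset_left Set.inter_subset_left
    rw [Set.ncard_union_eq (Disjoint.union_left (Disjoint.union_left (hd _ _ hwn1) (hd _ _ hn_wn))
        (hd _ _ hw_wn)) (Set.toFinite _) (Set.toFinite _),
      Set.ncard_union_eq (Disjoint.union_left (hd _ _ hw1) (hd _ _ hn_w)) (Set.toFinite _) (Set.toFinite _),
      Set.ncard_union_eq (hd _ _ (Ne.symm hn1)) (Set.toFinite _) (Set.toFinite _)]
  have hV16 : Nat.card V = 16 := by
    have h := card_map_mk W Q hWQ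
    rw [hcard] at h
    exact Nat.eq_of_mul_eq_mul_right Nat.card_pos h
  have h15 : (F 1).ncard + (F n).ncard + (F w).ncard + (F (w * n)).ncard = 15 := by
    have h := hcount (fun _ => True)
    simp only [Set.setOf_true, Set.inter_univ] at h
    rw [← h, hunion, Set.ncard_sdiff (Set.singleton_subset_iff.2 V.one_mem), Set.ncard_singleton,
      ← Nat.card_coe_set_eq]
    rw [show Nat.card ↥(V : Set (G ⧸ W)) = 16 from hV16]
  obtain ⟨uu, huu⟩ := exists_order hφ Nat.prime_three (by norm_num)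
  haveI : Fact (Nat.Prime 3) := ⟨Nat.prime_three⟩
  have hmap : ∀ {r : ℕ} [Fact r.Prime] {g : G}, orderOf g = r → g ∉ Q → orderOf (π1 g) = r := by
    intro r hrr g hg hgQ
    have hd : orderOf (π1 g) ∣ r := hg ▸ orderOf_map_dvd π1 g
    rcases (Nat.dvd_prime hrr.out).1 hd with h | h
    · exact absurd (hWQ ((QuotientGroup.eq_one_iff g).1 (orderOf_eq_one_iff.1 h))) hgQ
    · exact h
  have hu1 := hmap huu (not_mem_Q hQ Nat.prime_three (by norm_num) huu)
  have hy1 := hmap hy (not_mem_Q hQ (by norm_num : Nat.Prime 5) (by norm_num) hy)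
  have hinv : ∀ a ∈ W, ∀ (g : G), ∀ v ∈ F a, π1 g * v * (π1 g)⁻¹ ∈ F a := by
    rintro a ha g _ ⟨x, ⟨hx, hxW, rfl⟩, rfl⟩
    refine ⟨g * x * g⁻¹, ⟨(inferInstance : Q.Normal).conj_mem x hx g, fun h => hxW ?_, ?_⟩, ?_⟩
    · have := hWn g⁻¹ _ h
      rwa [show g⁻¹ * (g * x * g⁻¹) * g⁻¹⁻¹ = x by group] at this
    · rw [show g * x * g⁻¹ * (g * x * g⁻¹) = g * (x * x) * g⁻¹ by group, hcG _ ha g, mul_inv_cancel_right]
    · rw [map_mul, map_mul, map_inv]
  have h5 : ∀ a ∈ W, (F a).ncard % 5 = 0 := by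
    intro a ha
    rw [fixed_modEq hy1 (F a) (hinv a ha y)]
    have he : {v ∈ F a | π1 y * v * (π1 y)⁻¹ = v} = ∅ := by
      rw [Set.eq_empty_iff_forall_notMem]
      rintro _ ⟨⟨x, ⟨hx, hxW, -⟩, rfl⟩, he⟩
      refine hxW (hfree y hy x hx ((QuotientGroup.eq_one_iff _).1 ?_))
      show π1 (y * x * y⁻¹ * x⁻¹) = 1
      rw [map_mul, map_mul, map_mul, map_inv, map_inv, he, mul_inv_cancel]
    rw [he, Set.ncard_empty]
  have h3 : ∀ a ∈ W, (F a).ncard % 3 = (F a ∩ {v | π1 uu * v * (π1 uu)⁻¹ = v}).ncard % 3 := fun a ha => by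
    rw [fixed_modEq hu1 (F a) (hinv a ha uu)]; rfl
  have hle : ∀ a, (F a ∩ {v | π1 uu * v * (π1 uu)⁻¹ = v}).ncard ≤ (F a).ncard := fun a =>
    Set.ncard_le_ncard Set.inter_subset_left (Set.toFinite _)
  have hnW : n ∈ W := hNW hnN
  have hwnW : w * n ∈ W := W.mul_mem hw hnW
  have hrule : ∀ k ∈ W, k ≠ 1 → 0 < (F 1).ncard + (F k).ncard ∧ (F 1).ncard + (F k).ncard < 15 := by
    intro k hk hk1
    obtain ⟨⟨x, hx, hxW, he⟩, ⟨x', hx', hxW', he1, he2⟩⟩ := hsub k hk hk1
    constructor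
    · rcases he with e | e
      · have := (Set.ncard_pos (Set.toFinite (F 1))).2 ⟨_, x, ⟨hx, hxW, e⟩, rfl⟩
        omega
      · have := (Set.ncard_pos (Set.toFinite (F k))).2 ⟨_, x, ⟨hx, hxW, e⟩, rfl⟩
        omega
    · have := (Set.ncard_pos (Set.toFinite (F (x' * x')))).2 ⟨_, x', ⟨hx', hxW', rfl⟩, rfl⟩
      rcases hfour _ (hsqQ x' hx') with e | e | e | e <;> rw [e] at this he1 he2 <;>
        rcases hfour k hk with rfl | rfl | rfl | rfl <;> first | exact absurd rfl hk1 | exact absurd rfl he1 | exact absurd rfl he2 | omega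
  have hfix : 4 ≤ (F 1 ∩ {v | π1 uu * v * (π1 uu)⁻¹ = v}).ncard + (F n ∩ {v | π1 uu * v * (π1 uu)⁻¹ = v}).ncard +
      (F w ∩ {v | π1 uu * v * (π1 uu)⁻¹ = v}).ncard + (F (w * n) ∩ {v | π1 uu * v * (π1 uu)⁻¹ = v}).ncard := by
    exact fibre_bound _ _ _ _ _ _ _ _ (h5 1 W.one_mem) (h5 n hnW) (h5 w hw) (h5 _ hwnW) h15
      (hrule n hnW hn1) (hrule w hw hw1.symm) (hrule _ hwnW hwn1.symm) (h3 1 W.one_mem) (h3 n hnW) (h3 w hw)
      (h3 _ hwnW)
  set Cu := V ⊓ Subgroup.centralizer {π1 uu} with hCu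
  have hCu5 : 5 ≤ Nat.card Cu := by
    rw [← hcount] at hfix
    have hsubset : ((F 1 ∩ {v | π1 uu * v * (π1 uu)⁻¹ = v}) ∪ (F n ∩ {v | π1 uu * v * (π1 uu)⁻¹ = v}) ∪
        (F w ∩ {v | π1 uu * v * (π1 uu)⁻¹ = v}) ∪ (F (w * n) ∩ {v | π1 uu * v * (π1 uu)⁻¹ = v})) ⊆
        (Cu : Set (G ⧸ W)) \ {1} := by
      intro v hv
      have hV' : v ∈ F 1 ∪ F n ∪ F w ∪ F (w * n) ∧ π1 uu * v * (π1 uu)⁻¹ = v := by
        rcases hv with ((h | h) | h) | h
        · exact ⟨Or.inl (Or.inl (Or.inl h.1)), h.2⟩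
        · exact ⟨Or.inl (Or.inl (Or.inr h.1)), h.2⟩
        · exact ⟨Or.inl (Or.inr h.1), h.2⟩
        · exact ⟨Or.inr h.1, h.2⟩
      rw [hunion] at hV'
      exact ⟨⟨hV'.1.1, Subgroup.mem_centralizer_singleton_iff.2 (mul_inv_eq_iff_eq_mul.1 hV'.2).symm⟩, hV'.1.2⟩
    have h := hfix.trans (Set.ncard_le_ncard hsubset (Set.toFinite _))
    rw [Set.ncard_sdiff (Set.singleton_subset_iff.2 Cu.one_mem), Set.ncard_singleton, ← Nat.card_coe_set_eq] at h
    have h' : 4 ≤ Nat.card ↥Cu - 1 := h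
    omega
  have hV2 : ∀ v ∈ V, v * v = 1 := by
    rintro _ ⟨x, hx, rfl⟩
    rw [← map_mul]
    exact (QuotientGroup.eq_one_iff _).2 (hsqQ x hx)
  obtain ⟨a, b, ha, hba, hVa, hCb, hmod, hall⟩ := moved V hV2 hV16.le hu1
    (fun v hv => (inferInstance : V.Normal).conj_mem v hv _)
  have hab : b = a := by
    rw [hCu, hCb] at hCu5
    rw [hV16] at hVa
    have key : ∀ a b : Fin 5, (b : ℕ) ≤ a → 16 = 2 ^ (a : ℕ) → 5 ≤ 2 ^ (b : ℕ) →
        2 ^ (a : ℕ) % 3 = 2 ^ (b : ℕ) % 3 → b = a := by decide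
    exact congrArg Fin.val (key ⟨a, by omega⟩ ⟨b, by omega⟩ hba hVa hCu5 hmod)
  set K := (Subgroup.centralizer (V : Set (G ⧸ W))).comap π1 with hK
  haveI : K.Normal := by rw [hK]; infer_instance
  have huK : uu ∈ K := Subgroup.mem_centralizer_iff.2 fun v hv =>
    (mul_inv_eq_iff_eq_mul.1 (hall hab v hv)).symm
  have hQK : Q ≤ K := fun x hx => Subgroup.mem_centralizer_iff.2 fun v hv =>
    comm_of_sq hV2 hv ⟨x, hx, rfl⟩
  rcases normal_above hφ hker K hQK with h | h
  · exact not_mem_Q hQ Nat.prime_three (by norm_num) huu (h ▸ huK)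
  · have hQW : Q ≤ W := by
      intro x hx
      refine hfree y hy x hx ((QuotientGroup.eq_one_iff _).1 ?_)
      show π1 (y * x * y⁻¹ * x⁻¹) = 1
      have hyK : y ∈ K := h ▸ Subgroup.mem_top y
      rw [map_mul, map_mul, map_mul, map_inv, map_inv,
        ← Subgroup.mem_centralizer_iff.1 hyK (π1 x) ⟨x, hx, rfl⟩]
      group
    have := Subgroup.card_le_of_le hQW
    omega

/-- The structure of `O₂` when the quotient is `A₅`. -/
theorem five_main (hφ : Function.Surjective φ) (hker : φ.ker = Q) (hQ : IsPGroup 2 Q)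
    (hC : Subgroup.centralizer (Q : Set G) ≤ Q) (hr : Cfsg.SectionalPRankLE 2 4 G) :
    ((∀ x ∈ Q, x * x = 1) ∧ Nat.card Q = 16) ∨
      (Nat.card Q = 32 ∧ ∃ A B : Subgroup ↥Q, Nonempty (↥A ≃* QuaternionGroup 2) ∧
        Nonempty (↥B ≃* DihedralGroup 4) ∧ (∀ a ∈ A, ∀ b ∈ B, a * b = b * a) ∧ A ⊔ B = ⊤ ∧
        A ⊓ B = Subgroup.center ↥Q) := by
  classical
  haveI := Fact.mk Nat.prime_two
  haveI : Fact (Nat.Prime 5) := ⟨by norm_num⟩
  set Φ := (frattini ↥Q).map Q.subtype with hΦdef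
  haveI : Φ.Normal := by rw [hΦdef]; infer_instance
  have hΦQ : Φ ≤ Q := Subgroup.map_subtype_le _
  have hsqΦ : ∀ x ∈ Q, x * x ∈ Φ := fun x hx => by
    refine ⟨(⟨x, hx⟩ : ↥Q) ^ 2, SquareMaps.sq_mem_frattini hQ _, ?_⟩
    rw [pow_two]; rfl
  have hΦgen : ∀ M : Subgroup G, (∀ x ∈ Q, x * x ∈ M) → Φ ≤ M := by
    rintro M hM _ ⟨x, hx, rfl⟩
    have h := SquareMaps.frattini_le (M.subgroupOf Q) (fun x => by
      rw [Subgroup.mem_subgroupOf, Subgroup.coe_pow, pow_two]; exact hM x x.2) hx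
    exact h
  let π := QuotientGroup.mk' Φ
  set V := Q.map π with hV
  haveI : V.Normal := Subgroup.Normal.map inferInstance π (QuotientGroup.mk'_surjective Φ)
  have hV2 : ∀ v ∈ V, v * v = 1 := by
    rintro _ ⟨x, hx, rfl⟩
    rw [← map_mul]
    exact (QuotientGroup.eq_one_iff _).2 (hsqΦ x hx)
  have hcm := card_map_mk Φ Q hΦQ
  have hV16 : Nat.card V ≤ 16 := by
    have h := section_le hr Q Φ hΦQ (fun g _ k hk => (inferInstance : Φ.Normal).conj_mem k hk g) hsqΦ
    rw [← hcm] at h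
    exact Nat.le_of_mul_le_mul_right h Nat.card_pos
  have key : ∀ y : G, orderOf y = 5 → Nat.card V = 16 ∧ ∀ x ∈ Q, y * x * y⁻¹ * x⁻¹ ∈ Φ → x ∈ Φ := by
    intro y hy
    have hy1 : orderOf (π y) = 5 := by
      have hd : orderOf (π y) ∣ 5 := hy ▸ orderOf_map_dvd π y
      rcases (Nat.dvd_prime (by norm_num)).1 hd with h | h
      · exact absurd (hΦQ ((QuotientGroup.eq_one_iff y).1 (orderOf_eq_one_iff.1 h)))
          (not_mem_Q hQ (by norm_num : Nat.Prime 5) (by norm_num) hy)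
      · exact h
    obtain ⟨a, b, ha, hba, hVa, hCb, hmod, hall⟩ := moved V hV2 hV16 hy1
      (fun v hv => (inferInstance : V.Normal).conj_mem v hv _)
    have hne : b ≠ a := fun e => by
      have h := eq_two_of_trivial Q hQ hC (by norm_num : Nat.Prime 5) hy fun x hx => by
        rw [← QuotientGroup.eq_one_iff]
        show π (y * x * y⁻¹ * x⁻¹) = 1
        rw [map_mul, map_mul, map_mul, map_inv, map_inv, hall e (π x) ⟨x, hx, rfl⟩, mul_inv_cancel]
      norm_num at h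
    have key : ∀ a b : Fin 5, (b : ℕ) ≤ a → b ≠ a → 2 ^ (a : ℕ) % 5 = 2 ^ (b : ℕ) % 5 →
        (a : ℕ) = 4 ∧ (b : ℕ) = 0 := by decide
    obtain ⟨h4, h0⟩ := key ⟨a, by omega⟩ ⟨b, by omega⟩ hba (fun e => hne (congrArg Fin.val e)) hmod
    refine ⟨by rw [hVa, show a = 4 from h4]; norm_num, fun x hx hfix => ?_⟩
    have hC1 : V ⊓ Subgroup.centralizer {π y} = ⊥ :=
      Subgroup.card_eq_one.1 (by rw [hCb, show b = 0 from h0, pow_zero])
    have h1 : π (y * x * y⁻¹ * x⁻¹) = 1 := (QuotientGroup.eq_one_iff _).2 hfix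
    rw [map_mul, map_mul, map_mul, map_inv, map_inv] at h1
    have hm : π x ∈ V ⊓ Subgroup.centralizer {π y} :=
      ⟨⟨x, hx, rfl⟩, Subgroup.mem_centralizer_singleton_iff.2 (mul_inv_eq_iff_eq_mul.1 (mul_inv_eq_one.1 h1)).symm⟩
    rw [hC1, Subgroup.mem_bot] at hm
    exact (QuotientGroup.eq_one_iff x).1 hm
  obtain ⟨y, hy⟩ := exists_order hφ (by norm_num : Nat.Prime 5) (by norm_num)
  have hfree : FiveFree Q Φ := fun y hy => (key y hy).2
  have hcardQ : Nat.card Q = 16 * Nat.card Φ := by rw [← hcm, (key y hy).1]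
  by_cases hΦ : Φ = ⊥
  · left
    refine ⟨fun x hx => Subgroup.mem_bot.1 (hΦ ▸ hsqΦ x hx), ?_⟩
    rw [hcardQ, hΦ, Subgroup.card_bot, mul_one]
  obtain ⟨N, hNn, hNlt, hchief, hcom, hsqN⟩ := exists_layer Q Φ hQ hΦQ hΦ
  haveI := hNn
  have hNQ : N ≤ Q := hNlt.le.trans hΦQ
  let πN := QuotientGroup.mk' N
  have hπN : Function.Surjective πN := QuotientGroup.mk'_surjective N
  obtain ⟨φN, hφN, hkN⟩ := quot_data hφ hker N hNQ
  have hrN := sectionalRank_of_surjective hr πN hπN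
  haveI : (Q.map πN).Normal := Subgroup.Normal.map inferInstance πN hπN
  haveI : (Φ.map πN).Normal := Subgroup.Normal.map inferInstance πN hπN
  have hWne : Φ.map πN ≠ ⊥ := by
    intro h
    obtain ⟨a, ha, haN⟩ := SetLike.exists_of_lt hNlt
    exact haN ((QuotientGroup.eq_one_iff a).1 (Subgroup.mem_bot.1 (h ▸ ⟨a, ha, rfl⟩)))
  have hW2 : ∀ w ∈ Φ.map πN, w * w = 1 := by
    rintro _ ⟨a, ha, rfl⟩
    rw [← map_mul]
    exact (QuotientGroup.eq_one_iff _).2 (hsqN a ha)
  have hWc : ∀ w ∈ Φ.map πN, ∀ x ∈ Q.map πN, x * w = w * x := by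
    rintro _ ⟨a, ha, rfl⟩ _ ⟨x, hx, rfl⟩
    have h : πN (a * x * a⁻¹ * x⁻¹) = 1 := (QuotientGroup.eq_one_iff _).2 (hcom a ha x hx)
    rw [map_mul, map_mul, map_mul, map_inv, map_inv] at h
    exact (mul_inv_eq_iff_eq_mul.1 (mul_inv_eq_one.1 h)).symm
  have hmin : ∀ M : Subgroup (G ⧸ N), M.Normal → M ≤ Φ.map πN → M = ⊥ ∨ M = Φ.map πN := by
    intro M hM hle
    have h1 : N ≤ M.comap πN := fun n hn => by
      rw [Subgroup.mem_comap, show πN n = 1 from (QuotientGroup.eq_one_iff n).2 hn]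
      exact M.one_mem
    have h2 : M.comap πN ≤ Φ := by
      refine (Subgroup.comap_mono hle).trans ?_
      rw [Subgroup.comap_map_eq, QuotientGroup.ker_mk', sup_eq_left.2 hNlt.le]
    rcases hchief _ inferInstance h1 h2 with h | h
    · left; rw [← Subgroup.map_comap_eq_self_of_surjective hπN M, h, QuotientGroup.map_mk'_self]
    · right; rw [← Subgroup.map_comap_eq_self_of_surjective hπN M, h]
  have hQc : Nat.card ↥(Q.map πN) = 16 * Nat.card ↥(Φ.map πN) := by
    have h1 := card_map_mk N Q hNQ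
    have h2 := card_map_mk N Φ hNlt.le
    rw [hcardQ, ← h2, ← mul_assoc] at h1
    exact Nat.eq_of_mul_eq_mul_right Nat.card_pos h1
  have hQsq : ∀ x ∈ Q.map πN, x * x ∈ Φ.map πN := by
    rintro _ ⟨x, hx, rfl⟩
    rw [← map_mul]
    exact ⟨_, hsqΦ x hx, rfl⟩
  have hNp : IsPGroup 2 N := hQ.to_le hNQ
  rcases layer_order hφN hkN (hQ.map πN) hrN (Φ.map πN) hWne hW2 hWc hmin with hW | ⟨hW, hWfix⟩
  swap
  · exact (no_sixteen hφN hkN hrN (Φ.map πN) (Subgroup.map_mono hΦQ) hW2 hWc hQsq hQc hW hWfix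
      (free_quot Φ N hNlt.le hNp hfree)).elim
  have hΦcard : Nat.card Φ = 2 * Nat.card N := by rw [← hW]; exact (card_map_mk N Φ hNlt.le).symm
  by_cases hN : N = ⊥
  · right
    rw [hN, Subgroup.card_bot, mul_one] at hΦcard
    have hQ32 : Nat.card Q = 32 := by rw [hcardQ, hΦcard]
    refine ⟨hQ32, ?_⟩
    have hcΦ : ∀ a ∈ Φ, ∀ x ∈ Q, x * a = a * x := fun a ha x hx => by
      have h := hcom a ha x hx
      rw [hN, Subgroup.mem_bot] at h
      exact (mul_inv_eq_iff_eq_mul.1 (mul_inv_eq_one.1 h)).symm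
    obtain ⟨hcen, x₀, hx₀, hx₀Φ, hx₀2⟩ := trivial_layer hφ Φ hΦQ hcΦ hΦcard hsqΦ hQ32 hfree (by
      by_contra hall
      push Not at hall
      exact hΦ (le_bot_iff.1 (hΦgen ⊥ fun x hx => Subgroup.mem_bot.2 (hall x hx))))
    refine central_product (Φ.subgroupOf Q) hQ32 ?_ (fun h => hsqΦ h h.2) ?_ ?_ ?_
    · rw [Nat.card_congr (Subgroup.subgroupOfEquivOfLe hΦQ).toEquiv, hΦcard]
    · intro h
      rw [Subgroup.mem_subgroupOf]
      refine ⟨fun hh g => Subtype.ext (hcΦ _ hh g g.2), fun hh => ?_⟩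
      by_contra hn
      obtain ⟨g, hg, hne⟩ := hcen h h.2 hn
      exact hne (congrArg Subtype.val (hh ⟨g, hg⟩))
    · exact ⟨⟨x₀, hx₀⟩, fun h => hx₀Φ h, Subtype.ext hx₀2⟩
    · have himg : Subtype.val '' {h : ↥Q | h ∉ Φ.subgroupOf Q ∧ h * h = 1} =
          {x | x ∈ Q ∧ x ∉ Φ ∧ x * x = 1} := by
        ext x
        constructor
        · rintro ⟨h, ⟨h1, h2⟩, rfl⟩
          exact ⟨h.2, h1, congrArg Subtype.val h2⟩
        · rintro ⟨h1, h2, h3⟩
          exact ⟨⟨x, h1⟩, ⟨h2, Subtype.ext h3⟩, rfl⟩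
      rw [← Set.ncard_image_of_injective _ Subtype.val_injective, himg]
      rw [fixed_modEq hy {x | x ∈ Q ∧ x ∉ Φ ∧ x * x = 1} (fun x hx => ⟨(inferInstance : Q.Normal).conj_mem x hx.1 y, fun h => hx.2.1 (by
          have := (inferInstance : Φ.Normal).conj_mem _ h y⁻¹
          rwa [show y⁻¹ * (y * x * y⁻¹) * y⁻¹⁻¹ = x by group] at this),
        by rw [show y * x * y⁻¹ * (y * x * y⁻¹) = y * (x * x) * y⁻¹ by group, hx.2.2]; simp⟩)]
      have he : {s ∈ {x | x ∈ Q ∧ x ∉ Φ ∧ x * x = 1} | y * s * y⁻¹ = s} = ∅ := by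
        rw [Set.eq_empty_iff_forall_notMem]
        rintro x ⟨⟨h1, h2, -⟩, h4⟩
        refine h2 (hfree y hy x h1 ?_)
        rw [h4, mul_inv_cancel]
        exact Φ.one_mem
      rw [he, Set.ncard_empty]
  · exfalso
    obtain ⟨N', hN'n, hN'lt, hchief', hcom', hsqN'⟩ := exists_layer Q N hQ hNQ hN
    haveI := hN'n
    have hN'Q : N' ≤ Q := hN'lt.le.trans hNQ
    have hN'Φ : N' ≤ Φ := hN'lt.le.trans hNlt.le
    let π' := QuotientGroup.mk' N'
    have hπ' : Function.Surjective π' := QuotientGroup.mk'_surjective N'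
    obtain ⟨φ', hφ', hk'⟩ := quot_data hφ hker N' hN'Q
    haveI : (Q.map π').Normal := Subgroup.Normal.map inferInstance π' hπ'
    haveI : (Φ.map π').Normal := Subgroup.Normal.map inferInstance π' hπ'
    haveI : (N.map π').Normal := Subgroup.Normal.map inferInstance π' hπ'
    refine second_layer hφ' hk' (hQ.map π') (sectionalRank_of_surjective hr π' hπ') (Φ.map π') (N.map π')
      (Subgroup.map_mono hNlt.le) (Subgroup.map_mono hΦQ) ?_ ?_ ?_ ?_ ?_ ?_ ?_ ?_ ?_
      (free_quot Φ N' hN'Φ (hQ.to_le hN'Q) hfree) ?_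
    · intro h
      obtain ⟨a, ha, haN⟩ := SetLike.exists_of_lt hN'lt
      exact haN ((QuotientGroup.eq_one_iff a).1 (Subgroup.mem_bot.1 (h ▸ ⟨a, ha, rfl⟩)))
    · rintro _ ⟨a, ha, rfl⟩
      rw [← map_mul]
      exact (QuotientGroup.eq_one_iff _).2 (hsqN' a ha)
    · rintro _ ⟨a, ha, rfl⟩ _ ⟨x, hx, rfl⟩
      have h : π' (a * x * a⁻¹ * x⁻¹) = 1 := (QuotientGroup.eq_one_iff _).2 (hcom' a ha x hx)
      rw [map_mul, map_mul, map_mul, map_inv, map_inv] at h
      exact (mul_inv_eq_iff_eq_mul.1 (mul_inv_eq_one.1 h)).symm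
    · intro M hM hle
      have h1 : N' ≤ M.comap π' := fun n hn => by
        rw [Subgroup.mem_comap, show π' n = 1 from (QuotientGroup.eq_one_iff n).2 hn]
        exact M.one_mem
      have h2 : M.comap π' ≤ N := by
        refine (Subgroup.comap_mono hle).trans ?_
        rw [Subgroup.comap_map_eq, QuotientGroup.ker_mk', sup_eq_left.2 hN'lt.le]
      rcases hchief' _ inferInstance h1 h2 with h | h
      · left; rw [← Subgroup.map_comap_eq_self_of_surjective hπ' M, h, QuotientGroup.map_mk'_self]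
      · right; rw [← Subgroup.map_comap_eq_self_of_surjective hπ' M, h]
    · have h1 := card_map_mk N' Φ hN'Φ
      have h2 := card_map_mk N' N hN'lt.le
      rw [hΦcard, ← h2, ← mul_assoc] at h1
      exact Nat.eq_of_mul_eq_mul_right Nat.card_pos h1
    · rintro _ ⟨a, ha, rfl⟩
      rw [← map_mul]
      exact ⟨_, hsqN a ha, rfl⟩
    · rintro _ ⟨a, ha, rfl⟩ _ ⟨x, hx, rfl⟩
      exact ⟨a * x * a⁻¹ * x⁻¹, hcom a ha x hx, by rw [map_mul, map_mul, map_mul, map_inv, map_inv]⟩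
    · rintro _ ⟨x, hx, rfl⟩
      rw [← map_mul]
      exact ⟨_, hsqΦ x hx, rfl⟩
    · have h1 := card_map_mk N' Q hN'Q
      have h2 := card_map_mk N' Φ hN'Φ
      rw [hcardQ, ← h2, ← mul_assoc] at h1
      exact Nat.eq_of_mul_eq_mul_right Nat.card_pos h1
    · intro M hM hle hsqM
      have h2 : Φ ≤ M.comap π' := hΦgen _ fun x hx => by
        rw [Subgroup.mem_comap, map_mul]
        exact hsqM _ ⟨x, hx, rfl⟩
      exact le_antisymm hle (Subgroup.map_le_iff_le_comap.2 h2)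

end Cfsg.Agent.Lib.Inv59.RankFour
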